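import Cfsg.Agent.H219.Finish
import Cfsg.Agent.Involutions.BaerSuzuki
import Cfsg.Agent.PLocal.OffenderStep

/-!
The case where a quadratic element of `H = N(Z)` acts nontrivially on `Y₁`.
-/

set_option autoImplicit false

namespace Cfsg.Agent.H219.CaseOne

open Subgroup
open scoped commutatorElement
open Cfsg.Agent.Lib.GoldschmidtFusion
open Cfsg.Agent.Walter.GlaubermanFusion
open Cfsg.Agent.H219.Conf Cfsg.Agent.H219.Finish

variable {G : Type*} [Group G] {p : ℕ}

/-- If a Sylow subgroup of `K` and all elements of `K` of order prime to `p` are in `M` then `K ≤ M`. -/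
theorem le_of_pprime [Finite G] [hpf : Fact p.Prime] {K R M : Subgroup G} (hRK : R ≤ K)
    (hidx : ¬ p ∣ R.relIndex K) (hR : R ≤ M)
    (h : ∀ x ∈ K, (orderOf x).Coprime p → x ∈ M) : K ≤ M := by
  set C := Subgroup.closure {x : G | x ∈ K ∧ (orderOf x).Coprime p} with hC
  have hCK : C ≤ K := by
    rw [hC, closure_le]
    exact fun x hx => hx.1
  have hCM : C ≤ M := by
    rw [hC, closure_le]
    exact fun x hx => h x hx.1 hx.2
  have hKC : K ≤ normalizer (C : Set G) := by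
    intro k hk
    rw [mem_normalizer_iff_map_conj]
    apply map_conj_le_of_le_normalizer
    rw [hC, MonoidHom.map_closure, closure_le]
    rintro _ ⟨x, ⟨hx1, hx2⟩, rfl⟩
    refine subset_closure ⟨K.mul_mem (K.mul_mem hk hx1) (K.inv_mem hk), ?_⟩
    have : orderOf ((MulAut.conj k).toMonoidHom x) = orderOf x :=
      orderOf_injective _ (MulAut.conj k).injective x
    rw [this]
    exact hx2
  intro x hx
  obtain ⟨s, hs, c, hc, rfl⟩ := exists_mul_of_pprime_mem (p := p) hRK hidx hCK hKC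
    (fun y hy hcop => subset_closure ⟨hy, hcop⟩) hx
  exact M.mul_mem (hR hs) (hCM hc)

/-- An element of order prime to `p` of `R L`, `R` a `p`-group normalizing `L`, lies in `L`. -/
theorem mem_of_mem_sup [Finite G] [hpf : Fact p.Prime] {R L : Subgroup G} (hR : IsPGroup p R)
    (hRL : R ≤ normalizer (L : Set G)) {k : G} (hk : k ∈ R ⊔ L) (hcop : (orderOf k).Coprime p) :
    k ∈ L := by
  have hXL : R ⊔ L ≤ normalizer (L : Set G) := sup_le hRL le_normalizer
  have hn : (L.subgroupOf (R ⊔ L)).Normal := by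
    rwa [normal_subgroupOf_iff_le_normalizer le_sup_right]
  have h1 := Subgroup.pow_index_mem (L.subgroupOf (R ⊔ L)) ⟨k, hk⟩
  have h2 : k ^ L.relIndex (R ⊔ L) ∈ L := h1
  have h3 : L.relIndex (R ⊔ L) ∣ Nat.card R := by
    have h4 := card_sup_mul_card_inf hRL
    rw [← card_mul_relIndex_of_le (le_sup_right : L ≤ R ⊔ L)] at h4
    have h5 : L.relIndex (R ⊔ L) * Nat.card (R ⊓ L : Subgroup G) = Nat.card R := by
      apply Nat.eq_of_mul_eq_mul_left (Nat.card_pos (α := L))
      rw [← mul_assoc, h4, mul_comm]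
    exact Dvd.intro _ h5
  obtain ⟨j, hj⟩ := IsPGroup.iff_card.1 hR
  have h4 : (L.relIndex (R ⊔ L)).Coprime (orderOf k) := by
    rw [hj] at h3
    exact Nat.Coprime.coprime_dvd_left h3 (Nat.Coprime.pow_left j hcop.symm)
  obtain ⟨m, hm⟩ := exists_pow_eq_self_of_coprime (x := k) h4
  have h5 := pow_mem h2 m
  rwa [hm] at h5

theorem normalizer_le_normalizer_centralizer (A : Subgroup G) :
    normalizer (A : Set G) ≤ normalizer ((centralizer (A : Set G) : Subgroup G) : Set G) := by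
  rw [le_normalizer_iff]
  intro m hm k hk
  rw [← mem_normalizer_iff_map_conj.1 hm, mem_centralizer_map_conj]
  simpa [mul_assoc] using hk

theorem inf_le_normalizer_inf {A B : Subgroup G} : normalizer (A : Set G) ⊓ normalizer (B : Set G) ≤
    normalizer ((A ⊓ B : Subgroup G) : Set G) := by
  intro n hn
  rw [mem_normalizer_iff_map_conj, Subgroup.map_inf _ _ _ (MulAut.conj n).injective,
      mem_normalizer_iff_map_conj.1 hn.1, mem_normalizer_iff_map_conj.1 hn.2]

/-- A fixed vector of `a` moved by an element of order prime to `p`. -/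
theorem exists_fixed_moved [Finite G] [hpf : Fact p.Prime] {K V : Subgroup G} {a b : G}
    (hK : Subgroup.closure ({a, b} : Set G) = K) (hKV : K ≤ normalizer (V : Set G))
    (hV : IsPGroup p V) (hb : ∃ n : ℕ, b ^ p ^ n = 1)
    (haq : ∀ x ∈ V, a * (a * x * a⁻¹ * x⁻¹) * a⁻¹ = a * x * a⁻¹ * x⁻¹)
    (hnp : ∃ k ∈ K, (orderOf k).Coprime p ∧ k ∉ centralizer (V : Set G)) :
    ∃ y ∈ V, a * y * a⁻¹ = y ∧ ∃ k ∈ K, (orderOf k).Coprime p ∧ k * y * k⁻¹ ≠ y := by
  by_contra hcon
  push Not at hcon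
  have haK : a ∈ K := by rw [← hK]; exact Subgroup.subset_closure (by simp)
  have hbK : b ∈ K := by rw [← hK]; exact Subgroup.subset_closure (by simp)
  set C := Subgroup.closure {x : G | x ∈ K ∧ (orderOf x).Coprime p} with hC
  have hKC : K ≤ normalizer (C : Set G) := by
    intro k hk
    rw [mem_normalizer_iff_map_conj]
    apply map_conj_le_of_le_normalizer
    rw [hC, MonoidHom.map_closure, closure_le]
    rintro _ ⟨x, ⟨hx1, hx2⟩, rfl⟩
    refine subset_closure ⟨K.mul_mem (K.mul_mem hk hx1) (K.inv_mem hk), ?_⟩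
    have : orderOf ((MulAut.conj k).toMonoidHom x) = orderOf x :=
      orderOf_injective _ (MulAut.conj k).injective x
    rw [this]
    exact hx2
  set U := V ⊓ centralizer (C : Set G) with hU
  have hKU : K ≤ normalizer (U : Set G) := by
    intro k hk
    exact inf_le_normalizer_inf ⟨hKV hk, normalizer_le_normalizer_centralizer C (hKC hk)⟩
  have haU : ∀ u ∈ V, a * u * a⁻¹ * u⁻¹ ∈ U := by
    intro u hu
    have h1 : a * u * a⁻¹ * u⁻¹ ∈ V :=
      V.mul_mem ((Subgroup.mem_normalizer_iff.1 (hKV haK) u).1 hu) (V.inv_mem hu)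
    refine ⟨h1, ?_⟩
    have h2 : C ≤ centralizer ({a * u * a⁻¹ * u⁻¹} : Set G) := by
      rw [hC, closure_le]
      intro k hk
      have h3 := hcon _ h1 (haq u hu) k hk.1 hk.2
      rw [SetLike.mem_coe, mem_centralizer_iff]
      intro t ht
      rw [Set.mem_singleton_iff] at ht
      rw [ht]
      exact (mul_inv_eq_iff_eq_mul.1 h3).symm
    refine mem_centralizer_iff.2 ?_
    intro c hc
    exact ((mem_centralizer_iff.1 (h2 hc)) _ rfl).symm
  -- the subgroup acting trivially on `V / U`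
  let L : Subgroup G :=
    { carrier := {k | k ∈ normalizer (V : Set G) ∧ k ∈ normalizer (U : Set G) ∧
        ∀ u ∈ V, k * u * k⁻¹ * u⁻¹ ∈ U}
      mul_mem' := by
        rintro k l ⟨hk1, hk2, hk3⟩ ⟨hl1, hl2, hl3⟩
        refine ⟨mul_mem hk1 hl1, mul_mem hk2 hl2, fun u hu => ?_⟩
        have e : k * l * u * (k * l)⁻¹ * u⁻¹ =
            k * (l * u * l⁻¹ * u⁻¹) * k⁻¹ * (k * u * k⁻¹ * u⁻¹) := by group
        rw [e]
        exact U.mul_mem ((Subgroup.mem_normalizer_iff.1 hk2 _).1 (hl3 u hu)) (hk3 u hu)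
      one_mem' := ⟨one_mem _, one_mem _, fun u hu => by
        have e : (1 : G) * u * 1⁻¹ * u⁻¹ = 1 := by group
        rw [e]; exact U.one_mem⟩
      inv_mem' := by
        rintro k ⟨hk1, hk2, hk3⟩
        refine ⟨inv_mem hk1, inv_mem hk2, fun u hu => ?_⟩
        have e : k⁻¹ * u * k⁻¹⁻¹ * u⁻¹ = k⁻¹ * (k * u * k⁻¹ * u⁻¹)⁻¹ * k⁻¹⁻¹ := by group
        rw [e]
        exact (Subgroup.mem_normalizer_iff.1 (inv_mem hk2) _).1 (U.inv_mem (hk3 u hu)) }
  have hbL : zpowers b ≤ normalizer (L : Set G) := by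
    rw [zpowers_le, mem_normalizer_iff_map_conj]
    apply map_conj_le_of_le_normalizer
    rintro _ ⟨l, ⟨hl1, hl2, hl3⟩, rfl⟩
    have hbV := hKV hbK
    have hbU := hKU hbK
    change b * l * b⁻¹ ∈ L
    refine ⟨mul_mem (mul_mem hbV hl1) (inv_mem hbV), mul_mem (mul_mem hbU hl2) (inv_mem hbU), ?_⟩
    intro u hu
    have hu' : b⁻¹ * u * b ∈ V := by
      have := (Subgroup.mem_normalizer_iff.1 (inv_mem hbV) u).1 hu
      rwa [inv_inv] at this
    have e : b * l * b⁻¹ * u * (b * l * b⁻¹)⁻¹ * u⁻¹ =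
        b * (l * (b⁻¹ * u * b) * l⁻¹ * (b⁻¹ * u * b)⁻¹) * b⁻¹ := by group
    rw [e]
    exact (Subgroup.mem_normalizer_iff.1 hbU _).1 (hl3 _ hu')
  have hKL : K ≤ zpowers b ⊔ L := by
    rw [← hK, closure_le]
    rintro x (rfl | hx)
    · exact le_sup_right (a := zpowers b) (show x ∈ L from ⟨hKV haK, hKU haK, haU⟩)
    · rw [Set.mem_singleton_iff.1 hx]
      exact le_sup_left (a := zpowers b) (mem_zpowers b)
  have hbp : IsPGroup p (zpowers b) := by
    obtain ⟨n, hn⟩ := hb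
    rintro ⟨z, hz⟩
    obtain ⟨m, rfl⟩ := Subgroup.mem_zpowers_iff.1 hz
    refine ⟨n, Subtype.ext ?_⟩
    change (b ^ m) ^ p ^ n = 1
    rw [← zpow_natCast, ← zpow_mul, mul_comm, zpow_mul, zpow_natCast, hn, one_zpow]
  obtain ⟨k, hk, hcop, hkV⟩ := hnp
  apply hkV
  have hkL : k ∈ L := mem_of_mem_sup hbp hbL (hKL hk) hcop
  rw [mem_centralizer_iff]
  intro u hu
  have h1 := hkL.2.2 u hu
  have h2 : ⁅u, k⁆ ∈ U := by
    have e : ⁅u, k⁆ = (k * u * k⁻¹ * u⁻¹)⁻¹ := by
      rw [commutatorElement_def]; group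
    rw [e]
    exact U.inv_mem h1
  have hkC : k ∈ C := subset_closure ⟨hk, hcop⟩
  have hcard : (orderOf k).Coprime (Nat.card U) := by
    obtain ⟨j, hj⟩ := IsPGroup.iff_card.mp (hV.to_le (inf_le_left : U ≤ V))
    rw [hj]; exact Nat.Coprime.pow_right j hcop
  exact Lib.CoprimeStab.commute_of_commutator_commute hcard h2
    ((mem_centralizer_iff.1 h2.2) k hkC).symm

/-- Baer–Suzuki on a minimal `H`-invariant `p`-subgroup. -/
theorem exists_moving [Finite G] [hpf : Fact p.Prime] {H V : Subgroup G} {a : G}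
    (hV : IsPGroup p V) (hV1 : V ≠ ⊥) (hHV : H ≤ normalizer (V : Set G))
    (hmin : ∀ U : Subgroup G, U ≤ V → U ≠ ⊥ → H ≤ normalizer (U : Set G) → U = V)
    (haH : a ∈ H) (haV : a ∉ centralizer (V : Set G)) :
    ∃ h ∈ H, ∃ k ∈ Subgroup.closure ({a, h * a * h⁻¹} : Set G),
      (orderOf k).Coprime p ∧ k ∉ centralizer (V : Set G) := by
  by_contra hcon
  push Not at hcon
  set C : Subgroup H := (centralizer (V : Set G)).subgroupOf H with hC
  have hCn : C.Normal := by
    have h1 : H ≤ normalizer ((centralizer (V : Set G) : Subgroup G) : Set G) :=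
      hHV.trans (normalizer_le_normalizer_centralizer V)
    refine ⟨fun c hc g => ?_⟩
    exact (Subgroup.mem_normalizer_iff.1 (h1 g.2) c).1 hc
  set ψ := QuotientGroup.mk' C with hψ
  have hψs : Function.Surjective ψ := QuotientGroup.mk'_surjective _
  have hψ1 : ∀ x : H, ψ x = 1 ↔ (x : G) ∈ centralizer (V : Set G) := fun x =>
    QuotientGroup.eq_one_iff x
  have hx : ψ ⟨a, haH⟩ ∈ Cfsg.pCore p (H ⧸ C) := by
    apply Involutions.BaerSuzuki.mem_pCore_of_conj_pairs
    intro g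
    obtain ⟨h, rfl⟩ := hψs g
    have e : (Subgroup.closure {ψ ⟨a, haH⟩, ψ h * ψ ⟨a, haH⟩ * (ψ h)⁻¹} : Subgroup (H ⧸ C)) =
        (Subgroup.closure {(⟨a, haH⟩ : H), h * ⟨a, haH⟩ * h⁻¹}).map ψ := by
      rw [MonoidHom.map_closure, Set.image_pair, map_mul, map_mul, map_inv]
    rw [e]
    rintro ⟨_, k, hk, rfl⟩
    obtain ⟨j, m, hm, hkm⟩ := Nat.exists_eq_pow_mul_and_not_dvd (orderOf_pos (k : G)).ne' p
      hpf.out.one_lt.ne'
    refine ⟨j, Subtype.ext ?_⟩
    change (ψ k) ^ p ^ j = 1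
    rw [← map_pow, hψ1]
    refine hcon h h.2 _ ?_ ?_
    · have h1 : (k : G) ∈ (Subgroup.closure {(⟨a, haH⟩ : H), h * ⟨a, haH⟩ * h⁻¹}).map H.subtype :=
        ⟨k, hk, rfl⟩
      rw [MonoidHom.map_closure, Set.image_pair] at h1
      exact pow_mem h1 _
    · rw [Subgroup.coe_pow, orderOf_pow_of_dvd (pow_ne_zero _ hpf.out.ne_zero)
        (by rw [hkm]; exact Dvd.intro _ rfl), hkm, Nat.mul_div_cancel_left _ (pow_pos hpf.out.pos _)]
      exact ((Nat.Prime.coprime_iff_not_dvd hpf.out).2 hm).symm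
  have hEn : (Cfsg.pCore p (H ⧸ C)).Normal := Lib.Cores.pCore_normal p
  have hEp : IsPGroup p (Cfsg.pCore p (H ⧸ C)) := Lib.Cores.pCore_isPGroup p
  set D : Subgroup H := (Cfsg.pCore p (H ⧸ C)).comap ψ with hD
  have hDn : D.Normal := by rw [hD]; infer_instance
  set D' : Subgroup G := D.map H.subtype with hD'
  have hD'H : D' ≤ H := map_subtype_le D
  have hHD' : H ≤ normalizer (D' : Set G) := by
    intro h hh
    rw [mem_normalizer_iff_map_conj]
    apply map_conj_le_of_le_normalizer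
    rintro _ ⟨_, ⟨d, hd, rfl⟩, rfl⟩
    exact ⟨⟨h, hh⟩ * d * ⟨h, hh⟩⁻¹, hDn.conj_mem d hd _, rfl⟩
  obtain ⟨R, -, hRD, hR, hRi⟩ := exists_sylow_in (p := p) (N := D') (D := ⊥) bot_le
    IsPGroup.of_bot
  have hpp : ∀ d ∈ D', (orderOf d).Coprime p → d ∈ centralizer (V : Set G) := by
    rintro _ ⟨d, hd, rfl⟩ hcop
    have h1 : ψ d ∈ Cfsg.pCore p (H ⧸ C) := hd
    obtain ⟨n, hn⟩ := hEp ⟨ψ d, h1⟩
    have h2 : (ψ d) ^ p ^ n = 1 := congrArg Subtype.val hn
    have h3 : (orderOf (ψ d)) ∣ orderOf (H.subtype d) := by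
      have h4 : orderOf (H.subtype d) = orderOf d := orderOf_injective H.subtype H.subtype_injective d
      rw [h4]
      exact orderOf_map_dvd ψ d
    have h4 : (orderOf (ψ d)) ∣ p ^ n := orderOf_dvd_of_pow_eq_one h2
    have h5 : orderOf (ψ d) = 1 :=
      Nat.eq_one_of_dvd_coprimes (Nat.Coprime.pow_right n hcop) h3 h4
    exact (hψ1 d).1 (orderOf_eq_one_iff.1 h5)
  have hRV : R ≤ normalizer (V : Set G) := hRD.trans (hD'H.trans hHV)
  obtain ⟨⟨z, hz1, hz2⟩, hz3⟩ := (Subgroup.ne_bot_iff_exists_ne_one).1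
    (PLocal.OffenderStep.inf_centralizer_ne_bot (p := p) V R hV hR hRV hV1)
  have hD'z : D' ≤ centralizer ({z} : Set G) := by
    refine le_of_pprime hRD hRi ?_ ?_
    · intro r hr
      rw [mem_centralizer_iff]
      intro t ht
      rw [Set.mem_singleton_iff] at ht
      rw [ht]
      exact ((mem_centralizer_iff.1 hz2) r hr).symm
    · intro d hd hcop
      rw [mem_centralizer_iff]
      intro t ht
      rw [Set.mem_singleton_iff] at ht
      rw [ht]
      exact (mem_centralizer_iff.1 (hpp d hd hcop)) z hz1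
  have hU := hmin (V ⊓ centralizer (D' : Set G)) inf_le_left (by
    intro hb
    apply hz3
    apply Subtype.ext
    have h1 : z ∈ V ⊓ centralizer (D' : Set G) := by
      refine ⟨hz1, ?_⟩
      refine mem_centralizer_iff.2 ?_
      intro d hd
      exact ((mem_centralizer_iff.1 (hD'z hd)) z rfl).symm
    rw [hb, mem_bot] at h1
    exact h1) (by
    intro h hh
    exact inf_le_normalizer_inf ⟨hHV hh, normalizer_le_normalizer_centralizer D' (hHD' hh)⟩)
  apply haV
  rw [mem_centralizer_iff]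
  intro v hv
  have hv' : v ∈ centralizer (D' : Set G) := by
    have h1 : v ∈ V ⊓ centralizer (D' : Set G) := by rw [hU]; exact hv
    exact h1.2
  have haD' : a ∈ D' := ⟨⟨a, haH⟩, hx, rfl⟩
  exact ((mem_centralizer_iff.1 hv') a haD').symm

end Cfsg.Agent.H219.CaseOne
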