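import Cfsg.Agent.H219.CaseOne

/-!
The unique maximal subgroup argument.
-/

set_option autoImplicit false

namespace Cfsg.Agent.H219.CaseTwo

open Subgroup
open scoped Pointwise
open Cfsg.Agent.Lib.GoldschmidtFusion
open Cfsg.Agent.Walter.GlaubermanFusion
open Cfsg.Agent.H219.Conf Cfsg.Agent.H219.Finish Cfsg.Agent.H219.CaseOne

variable {G : Type*} [Group G] {p : ℕ} {lam : ZMod p}

/-- The situation of the second half of the centric case. -/
structure Setup (p : ℕ) (S Z B V : Subgroup G) : Prop where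
  pS : IsPGroup p S
  syl : ¬ p ∣ S.index
  SH : S ≤ normalizer (Z : Set G)
  top : normalizer (Z : Set G) ≠ ⊤
  uniq : ∀ M : Subgroup G, M ≠ ⊤ → S ≤ M → M ≤ normalizer (Z : Set G)
  Bn : B.Normal
  Bab : ∀ x ∈ B, ∀ y ∈ B, x * y = y * x
  Bexp : ∀ x ∈ B, x ^ p = 1
  VZ : V ≤ Z
  VB : V ≤ B
  V1 : V ≠ ⊥
  HV : normalizer (Z : Set G) ≤ normalizer (V : Set G)
  Vn : normalizer (V : Set G) ≠ ⊤

theorem isPGroup_zpowers {b : G} (hb : ∃ n : ℕ, b ^ p ^ n = 1) : IsPGroup p (zpowers b) := by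
  obtain ⟨n, hn⟩ := hb
  rintro ⟨z, hz⟩
  obtain ⟨m, rfl⟩ := Subgroup.mem_zpowers_iff.1 hz
  refine ⟨n, Subtype.ext ?_⟩
  change (b ^ m) ^ p ^ n = 1
  rw [← zpow_natCast, ← zpow_mul, mul_comm, zpow_mul, zpow_natCast, hn, one_zpow]

variable [Finite G] [hpf : Fact p.Prime] {S Z B V : Subgroup G}

omit [Finite G] in
theorem Setup.BH (st : Setup p S Z B V) : B ≤ normalizer (Z : Set G) := by
  have h1 : B ≤ Cfsg.pCore p G := Lib.Cores.le_pCore st.Bn (isPGroup_of_exp st.Bexp)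
  exact (h1.trans (Lib.Cores.pCore_le_sylow (st.pS.toSylow st.syl))).trans st.SH

theorem case_one (hp : p ≠ 2) (hlam : lam ≠ 0) (st : Setup p S Z B V)
    (hmin : ∀ U : Subgroup G, U ≤ V → U ≠ ⊥ → normalizer (Z : Set G) ≤ normalizer (U : Set G) →
      U = V)
    {a : G} (haH : a ∈ normalizer (Z : Set G)) (haq : Quad p B a)
    (haV : a ∉ centralizer (V : Set G)) : FConf p lam S (normalizer (Z : Set G)) Z := by
  have hBn := st.Bn
  have hBp : IsPGroup p B := isPGroup_of_exp st.Bexp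
  have hVp : IsPGroup p V := hBp.to_le st.VB
  obtain ⟨h, hh, hk⟩ := exists_moving hVp st.V1 st.HV hmin haH haV
  have hbH : h * a * h⁻¹ ∈ normalizer (Z : Set G) := mul_mem (mul_mem hh haH) (inv_mem hh)
  have hbq : Quad p B (h * a * h⁻¹) := haq.conj h
  set b := h * a * h⁻¹ with hb
  set K := Subgroup.closure ({a, b} : Set G) with hK
  have hKH : K ≤ normalizer (Z : Set G) := by
    rw [hK, closure_le]
    rintro x (rfl | hx)
    · exact haH
    · rw [Set.mem_singleton_iff.1 hx]; exact hbH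
  have haK : a ∈ K := Subgroup.subset_closure (by simp)
  obtain ⟨y, hyV, hy, hmv⟩ := exists_fixed_moved (K := K) (V := V) rfl (hKH.trans st.HV) hVp hbq.1
    (fun x hx => haq.2 x (st.VB hx)) hk
  obtain ⟨P₀, haP, hPK, hPp, hPi⟩ := exists_sylow_in (p := p) (N := K) (D := zpowers a)
    (by rwa [zpowers_le]) (isPGroup_zpowers haq.1)
  exact finish hp hlam st.pS (fun hd => st.syl (hd.trans (relIndex_dvd_index_of_le st.SH))) st.BH
    st.Bab st.Bexp haq hbq (st.VB hyV) (st.VZ hyV) hy (K := K) rfl hmv hPK hPp hPi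
    (haP (mem_zpowers a)) (hPK.trans hKH) (fun x hx _ => hKH hx)

/-- In a `p`-group `T`, a proper "`Δ`-generated" subgroup is normalized by a further element of `Δ`. -/
theorem exists_normalizing {T R : Subgroup G} (hT : IsPGroup p T) (hRT : R ≤ T) (D : Set G)
    (hD : ∀ t ∈ T, ∀ d ∈ D, t * d * t⁻¹ ∈ D) (hR : R ≤ Subgroup.closure {g | g ∈ D ∧ g ∈ R})
    {d₀ : G} (hd₀ : d₀ ∈ D) (hd₀T : d₀ ∈ T) (hd₀R : d₀ ∉ R) :
    ∃ d ∈ D, d ∈ T ∧ d ∉ R ∧ d ∈ normalizer (R : Set G) := by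
  by_cases hN : T ≤ normalizer (R : Set G)
  · exact ⟨d₀, hd₀, hd₀T, hd₀R, hN hd₀T⟩
  set N := T ⊓ normalizer (R : Set G) with hNdef
  have hNT : N < T := by
    refine lt_of_le_of_ne inf_le_left ?_
    intro h
    exact hN (inf_eq_left.1 h)
  obtain ⟨s, hs, hsN⟩ := SetLike.exists_of_lt (lt_inf_normalizer hT hNT)
  have hsR : ¬ R.map (MulAut.conj s).toMonoidHom ≤ R := by
    intro h
    apply hsN
    exact ⟨hs.1, mem_normalizer_iff_map_conj.2 (map_conj_le_of_le_normalizer h)⟩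
  have hex : ∃ d ∈ D, d ∈ R ∧ s * d * s⁻¹ ∉ R := by
    by_contra hcon
    push Not at hcon
    apply hsR
    refine (map_conj_mono hR s).trans ?_
    rw [MonoidHom.map_closure, closure_le]
    rintro _ ⟨d, ⟨hd1, hd2⟩, rfl⟩
    exact hcon d hd1 hd2
  obtain ⟨d, hdD, hdR, hds⟩ := hex
  have hRN : R ≤ N := le_inf hRT le_normalizer
  have h1 : s * d * s⁻¹ ∈ N := (Subgroup.mem_normalizer_iff.1 hs.2 d).1 (hRN hdR)
  exact ⟨s * d * s⁻¹, hD s hs.1 d hdD, h1.1, hds, h1.2⟩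

theorem case_two (hp : p ≠ 2) (hlam : lam ≠ 0) (st : Setup p S Z B V)
    (htriv : ∀ d ∈ normalizer (Z : Set G), Quad p B d → d ∈ centralizer (V : Set G))
    {a : G} (haS : a ∈ S) (haq : Quad p B a) (haY : a ∉ Cfsg.pCore p G) :
    FConf p lam S (normalizer (Z : Set G)) Z := by
  classical
  have hBn := st.Bn
  set H := normalizer (Z : Set G) with hH
  let P : Sylow p G := st.pS.toSylow st.syl
  have hPS : (P : Subgroup G) = S := rfl
  have hSi : ¬ p ∣ S.relIndex H := fun hd => st.syl (hd.trans (relIndex_dvd_index_of_le st.SH))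
  have hNS : normalizer (S : Set G) ≤ H := by
    refine st.uniq _ ?_ le_normalizer
    intro htop
    apply haY
    exact Lib.Cores.le_pCore (normalizer_eq_top_iff.1 htop) st.pS haS
  -- Sylow subgroups of `G` in `H` are `H`-conjugate to `S`
  have hconj : ∀ T : Sylow p G, (T : Subgroup G) ≤ H →
      ∃ n ∈ H, (T : Subgroup G).map (MulAut.conj n).toMonoidHom = S := by
    intro T hT
    obtain ⟨n, hn, hle⟩ := exists_conj_le_in (p := p) st.pS hSi hT T.isPGroup'
    refine ⟨n, hn, ?_⟩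
    have h1 : ((n • T : Sylow p G) : Subgroup G) ≤ (P : Subgroup G) := by
      rw [Sylow.coe_subgroup_smul]; exact hle
    have h2 := (n • T).is_maximal' P.isPGroup' h1
    rw [Sylow.coe_subgroup_smul] at h2
    exact h2.symm
  have huniq : ∀ T : Sylow p G, (T : Subgroup G) ≤ H → ∀ M : Subgroup G, M ≠ ⊤ →
      (T : Subgroup G) ≤ M → M ≤ H := by
    intro T hT M hM hTM
    obtain ⟨n, hn, hnS⟩ := hconj T hT
    have h1 : S ≤ M.map (MulAut.conj n).toMonoidHom := by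
      rw [← hnS]; exact map_conj_mono hTM n
    have h2 : M.map (MulAut.conj n).toMonoidHom ≠ ⊤ := by
      intro htop
      apply hM
      have h3 := congrArg (Subgroup.map (MulAut.conj n⁻¹).toMonoidHom) htop
      rw [map_conj_map_conj, inv_mul_cancel, map_conj_one] at h3
      rw [h3, Subgroup.map_top_of_surjective _ (MulAut.conj n⁻¹).surjective]
    have h3 := st.uniq _ h2 h1
    intro m hm
    have h4 : n * m * n⁻¹ ∈ H := h3 (conj_mem_map_conj hm n)
    have h5 := mul_mem (mul_mem (inv_mem hn) h4) hn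
    have e : n⁻¹ * (n * m * n⁻¹) * n = m := by group
    rwa [e] at h5
  have hmemH : ∀ (T : Sylow p G) (g : G), (T : Subgroup G) ≤ H →
      ((g • T : Sylow p G) : Subgroup G) ≤ H → g ∈ H := by
    intro T g hT hgT
    obtain ⟨u, hu, huS⟩ := hconj T hT
    obtain ⟨v, hv, hvS⟩ := hconj (g • T) hgT
    have h1 : v * g * u⁻¹ ∈ normalizer (S : Set G) := by
      rw [mem_normalizer_iff_map_conj]
      nth_rewrite 1 [← huS]
      rw [map_conj_map_conj]
      have e : v * g * u⁻¹ * u = v * g := by group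
      rw [e, ← map_conj_map_conj]
      exact hvS
    have h2 := mul_mem (mul_mem (inv_mem hv) (hNS h1)) hu
    have e : v⁻¹ * (v * g * u⁻¹) * u = g := by group
    rwa [e] at h2
  -- `N(V) ≤ H`
  have hNV : normalizer (V : Set G) ≤ H := st.uniq _ st.Vn (st.SH.trans st.HV)
  -- the pairs of Sylow subgroups
  let RR : Sylow p G × Sylow p G → Subgroup G := fun T =>
    Subgroup.closure {g | Quad p B g ∧ g ∈ (T.1 : Subgroup G) ∧ g ∈ (T.2 : Subgroup G)}
  let Pr : Set (Sylow p G × Sylow p G) := {T | (T.1 : Subgroup G) ≤ H ∧ ¬ (T.2 : Subgroup G) ≤ H}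
  have hPrne : Pr.Nonempty := by
    by_contra hcon
    rw [Set.not_nonempty_iff_eq_empty] at hcon
    have hall : ∀ T : Sylow p G, (T : Subgroup G) ≤ H := by
      intro T
      by_contra hT
      have : (P, T) ∈ Pr := ⟨st.SH, hT⟩
      rw [hcon] at this
      exact this
    apply st.top
    rw [eq_top_iff]
    intro g _
    exact hmemH P g (hall P) (hall (g • P))
  obtain ⟨⟨T₁, T₂⟩, hT, hTmax⟩ := (Set.toFinite Pr).exists_maximalFor
    (fun T => Nat.card (RR T)) _ hPrne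
  obtain ⟨hT₁, hT₂⟩ : (T₁ : Subgroup G) ≤ H ∧ ¬ (T₂ : Subgroup G) ≤ H := hT
  set R := RR (T₁, T₂) with hR
  have hRT₁ : R ≤ (T₁ : Subgroup G) := by
    rw [hR, closure_le]; exact fun g hg => hg.2.1
  have hRT₂ : R ≤ (T₂ : Subgroup G) := by
    rw [hR, closure_le]; exact fun g hg => hg.2.2
  have hRgen : R ≤ Subgroup.closure {g | g ∈ {g | Quad p B g} ∧ g ∈ R} := by
    conv_lhs => rw [hR]
    rw [closure_le]
    intro g hg
    exact subset_closure ⟨hg.1, subset_closure hg⟩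
  have hRp : IsPGroup p R := T₁.isPGroup'.to_le hRT₁
  -- the key property of the maximal pair
  have key : ∀ T T' : Sylow p G, (T : Subgroup G) ≤ H → R ≤ (T : Subgroup G) →
      R ≤ (T' : Subgroup G) → ∀ d, Quad p B d → d ∉ R → d ∈ (T : Subgroup G) →
      d ∈ (T' : Subgroup G) → (T' : Subgroup G) ≤ H := by
    intro T T' hTH hRT hRT' d hd hdR hdT hdT'
    by_contra hcon
    have h1 : (T, T') ∈ Pr := ⟨hTH, hcon⟩
    have hle : R ≤ RR (T, T') := by
      conv_lhs => rw [hR]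
      change Subgroup.closure _ ≤ _
      rw [closure_le]
      intro g hg
      have hgR : g ∈ R := subset_closure hg
      exact subset_closure ⟨hg.1, hRT hgR, hRT' hgR⟩
    have hlt : R < RR (T, T') := by
      refine lt_of_le_of_ne hle ?_
      intro h
      apply hdR
      rw [h]
      exact subset_closure ⟨hd, hdT, hdT'⟩
    have h2 := PLocal.ConjFunctor.card_lt_card_of_lt hlt
    have h3 : Nat.card (RR (T, T')) ≤ Nat.card R := hTmax h1 h2.le
    omega
  -- counting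
  have hcount : ∀ T T' : Sylow p G, (∀ d, Quad p B d → d ∈ (T : Subgroup G) →
      d ∈ (T' : Subgroup G)) → ∀ d, Quad p B d → d ∈ (T' : Subgroup G) → d ∈ (T : Subgroup G) := by
    intro T T' hsub
    obtain ⟨g, hg⟩ := MulAction.exists_smul_eq G T T'
    have himg : {d | Quad p B d ∧ d ∈ (T' : Subgroup G)} =
        (fun d => g * d * g⁻¹) '' {d | Quad p B d ∧ d ∈ (T : Subgroup G)} := by
      ext d
      constructor
      · rintro ⟨hd1, hd2⟩
        refine ⟨g⁻¹ * d * g, ⟨?_, ?_⟩, by group⟩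
        · have := hd1.conj g⁻¹
          rwa [inv_inv] at this
        · rw [← hg, Sylow.coe_subgroup_smul] at hd2
          exact (mem_map_conj (A := (T : Subgroup G))).1 hd2
      · rintro ⟨e, ⟨he1, he2⟩, rfl⟩
        refine ⟨he1.conj g, ?_⟩
        rw [← hg, Sylow.coe_subgroup_smul]
        exact conj_mem_map_conj he2 g
    have hinj : Function.Injective (fun d : G => g * d * g⁻¹) := (MulAut.conj g).injective
    have hcard : {d | Quad p B d ∧ d ∈ (T' : Subgroup G)}.ncard =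
        {d | Quad p B d ∧ d ∈ (T : Subgroup G)}.ncard := by
      rw [himg, Set.ncard_image_of_injective _ hinj]
    have heq := Set.eq_of_subset_of_ncard_le
      (s := {d | Quad p B d ∧ d ∈ (T : Subgroup G)})
      (t := {d | Quad p B d ∧ d ∈ (T' : Subgroup G)}) (fun d hd => ⟨hd.1, hsub d hd.1 hd.2⟩)
      hcard.le (Set.toFinite _)
    intro d hd1 hd2
    have : d ∈ {d | Quad p B d ∧ d ∈ (T' : Subgroup G)} := ⟨hd1, hd2⟩
    rw [← heq] at this
    exact this.2
  -- `Δ ∩ T₁ ⊄ R`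
  have hne₁ : ∃ d, Quad p B d ∧ d ∈ (T₁ : Subgroup G) ∧ d ∉ R := by
    by_contra hcon
    push Not at hcon
    have h12 : ∀ d, Quad p B d → d ∈ (T₁ : Subgroup G) → d ∈ (T₂ : Subgroup G) :=
      fun d hd hdT => hRT₂ (hcon d hd hdT)
    have h21 := hcount T₁ T₂ h12
    have hnorm : ∀ T : Sylow p G, (∀ d, Quad p B d → (d ∈ (T : Subgroup G) ↔
        d ∈ (T₁ : Subgroup G))) → (T : Subgroup G) ≤ normalizer (R : Set G) := by
      intro T hT t ht
      rw [mem_normalizer_iff_map_conj]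
      apply map_conj_le_of_le_normalizer
      refine (map_conj_mono hRgen t).trans ?_
      rw [MonoidHom.map_closure, closure_le]
      rintro _ ⟨d, ⟨hd1, hd2⟩, rfl⟩
      have hd1' : Quad p B d := hd1
      have h1 : d ∈ (T : Subgroup G) := (hT d hd1').2 (hRT₁ hd2)
      have h2 : t * d * t⁻¹ ∈ (T : Subgroup G) := mul_mem (mul_mem ht h1) (inv_mem ht)
      exact hcon _ (hd1'.conj t) ((hT _ (hd1'.conj t)).1 h2)
    have hn1 := hnorm T₁ (fun d _ => Iff.rfl)
    have hn2 := hnorm T₂ (fun d hd => ⟨h21 d hd, h12 d hd⟩)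
    have htop : normalizer (R : Set G) = ⊤ := by
      by_contra hne
      exact hT₂ (hn2.trans (huniq T₁ hT₁ _ hne hn1))
    have hRn : R.Normal := normalizer_eq_top_iff.1 htop
    obtain ⟨n, hn, hnS⟩ := hconj T₁ hT₁
    apply haY
    have h1 : n⁻¹ * a * n ∈ (T₁ : Subgroup G) := by
      rw [← hnS, mem_map_conj] at haS
      exact haS
    have h2 : n⁻¹ * a * n ∈ R := by
      have h3 := haq.conj n⁻¹
      rw [inv_inv] at h3
      exact hcon _ h3 h1
    have h3 := hRn.conj_mem _ h2 n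
    have e : n * (n⁻¹ * a * n) * n⁻¹ = a := by group
    rw [e] at h3
    exact Lib.Cores.le_pCore hRn hRp h3
  have hne₂ : ∃ d, Quad p B d ∧ d ∈ (T₂ : Subgroup G) ∧ d ∉ R := by
    by_contra hcon
    push Not at hcon
    have h21 : ∀ d, Quad p B d → d ∈ (T₂ : Subgroup G) → d ∈ (T₁ : Subgroup G) :=
      fun d hd hdT => hRT₁ (hcon d hd hdT)
    have h12 := hcount T₂ T₁ h21
    obtain ⟨d, hd, hdT, hdR⟩ := hne₁
    exact hdR (hcon d hd (h12 d hd hdT))
  obtain ⟨d₁, hd₁, hd₁T, hd₁R⟩ := hne₁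
  obtain ⟨d₂, hd₂, hd₂T, hd₂R⟩ := hne₂
  obtain ⟨a₁, ha₁, ha₁T, ha₁R, ha₁N⟩ := exists_normalizing T₁.isPGroup' hRT₁ {g | Quad p B g}
    (fun t _ d hd => Quad.conj hd t) hRgen hd₁ hd₁T hd₁R
  obtain ⟨a₂, ha₂, ha₂T, ha₂R, ha₂N⟩ := exists_normalizing T₂.isPGroup' hRT₂ {g | Quad p B g}
    (fun t _ d hd => Quad.conj hd t) hRgen hd₂ hd₂T hd₂R
  have ha₁' : Quad p B a₁ := ha₁
  have ha₂' : Quad p B a₂ := ha₂
  -- `a₂ ∉ H`
  have ha₂H : a₂ ∉ H := by
    intro ha₂H
    have hp2 : IsPGroup p ((T₂ : Subgroup G) ⊓ H : Subgroup G) := T₂.isPGroup'.to_le inf_le_left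
    obtain ⟨n, hn, hle⟩ := exists_conj_le_in (p := p) st.pS hSi
      (inf_le_right : (T₂ : Subgroup G) ⊓ H ≤ H) hp2
    have hle2 : (T₂ : Subgroup G) ⊓ H ≤ ((n⁻¹ • P : Sylow p G) : Subgroup G) := by
      rw [Sylow.coe_subgroup_smul]
      intro x hx
      have h1 : n * x * n⁻¹ ∈ (P : Subgroup G) := hle (conj_mem_map_conj hx n)
      have h2 := conj_mem_map_conj h1 n⁻¹
      have e : n⁻¹ * (n * x * n⁻¹) * n⁻¹⁻¹ = x := by group
      rw [e] at h2
      exact h2
    have hPH : ((n⁻¹ • P : Sylow p G) : Subgroup G) ≤ H := by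
      rw [Sylow.coe_subgroup_smul]
      rintro _ ⟨x, hx, rfl⟩
      exact mul_mem (mul_mem (inv_mem hn) (st.SH hx)) (inv_mem (inv_mem hn))
    have hRH : R ≤ (T₂ : Subgroup G) ⊓ H := le_inf hRT₂ (hRT₁.trans hT₁)
    exact hT₂ (key (n⁻¹ • P) T₂ hPH (hRH.trans hle2) hRT₂ a₂ ha₂' ha₂R (hle2 ⟨ha₂T, ha₂H⟩) ha₂T)
  -- the group `K₀`
  set K₀ := Subgroup.closure ({a₁, a₂} : Set G) with hK₀
  have ha₁K : a₁ ∈ K₀ := Subgroup.subset_closure (by simp)
  have ha₂K : a₂ ∈ K₀ := Subgroup.subset_closure (by simp)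
  have hKR : K₀ ≤ normalizer (R : Set G) := by
    rw [hK₀, closure_le]
    rintro x (rfl | hx)
    · exact ha₁N
    · rw [Set.mem_singleton_iff.1 hx]; exact ha₂N
  obtain ⟨P₀, haP, hPK, hPp, hPi⟩ := exists_sylow_in (p := p) (N := K₀) (D := zpowers a₁)
    (by rwa [zpowers_le]) (isPGroup_zpowers ha₁'.1)
  have ha₁P : a₁ ∈ P₀ := haP (mem_zpowers a₁)
  have hPRp : IsPGroup p (P₀ ⊔ R : Subgroup G) := hPp.to_sup_of_normal_right' hRp (hPK.trans hKR)
  obtain ⟨T', hT'⟩ := hPRp.exists_le_sylow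
  have hT'H : (T' : Subgroup G) ≤ H := key T₁ T' hT₁ hRT₁ (le_sup_right.trans hT') a₁ ha₁' ha₁R
    ha₁T (hT' (le_sup_left (b := R) ha₁P))
  have hP₀H : P₀ ≤ H := (le_sup_left.trans hT').trans hT'H
  have hN : ∀ x ∈ K₀, x ∈ normalizer (P₀ : Set G) → x ∈ H := by
    intro x hxK hxP
    refine hmemH T' x hT'H ?_
    have hx : (P₀ ⊔ R).map (MulAut.conj x).toMonoidHom = P₀ ⊔ R := by
      rw [Subgroup.map_sup, mem_normalizer_iff_map_conj.1 hxP,
        mem_normalizer_iff_map_conj.1 (hKR hxK)]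
    have hle : P₀ ⊔ R ≤ ((x • T' : Sylow p G) : Subgroup G) := by
      rw [Sylow.coe_subgroup_smul, ← hx]
      exact map_conj_mono hT' x
    exact key T₁ (x • T') hT₁ hRT₁ (le_sup_right.trans hle) a₁ ha₁' ha₁R ha₁T
      (hle (le_sup_left (b := R) ha₁P))
  -- the vector `y`
  have hy : ∃ y ∈ V, ∃ k ∈ K₀, (orderOf k).Coprime p ∧ k * y * k⁻¹ ≠ y := by
    by_contra hcon
    push Not at hcon
    apply ha₂H
    refine le_of_pprime hPK hPi hP₀H ?_ ha₂K
    intro x hx hcop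
    apply hNV
    apply centralizer_le_normalizer
    rw [mem_centralizer_iff]
    intro v hv
    exact (mul_inv_eq_iff_eq_mul.1 (hcon v hv x hx hcop)).symm
  obtain ⟨y, hyV, hmv⟩ := hy
  have hya : a₁ * y * a₁⁻¹ = y := by
    have h1 := htriv a₁ (hT₁ ha₁T) ha₁'
    exact conj_eq_of_mem_centralizer h1 hyV
  exact finish hp hlam st.pS hSi st.BH st.Bab st.Bexp ha₁' ha₂' (st.VB hyV) (st.VZ hyV) hya
    (K := K₀) rfl hmv hPK hPp hPi ha₁P hP₀H hN

end Cfsg.Agent.H219.CaseTwo
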