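import Mathlib
import Cfsg.Agent.Lib.FrattiniPGroup
import Cfsg.Agent.Lib.GoldschmidtFusion

/-!
A `p'`-element `x` acting on a `p`-group `Q` with an `x`-semi-invariant homomorphism `χ : Q → 𝔽_p`, `χ ≠ 0`,
normalizes a cyclic subgroup of `Q` on which `χ` is not zero.
-/

set_option autoImplicit false

namespace Cfsg.Agent.H219.CycLift

open Subgroup
open scoped commutatorElement
open Cfsg.Agent.Lib.GoldschmidtFusion

variable {p : ℕ} [hpf : Fact p.Prime]

theorem abel_lift {A : Type*} [CommGroup A] [Finite A] (hA : IsPGroup p A) (φ : A →* A) (m : ℕ)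
    (hm : ∀ a, φ^[m] a = a) (hpm : ¬ p ∣ m) (χ : A → ZMod p) (hχ1 : ∀ a b, χ (a * b) = χ a + χ b)
    (α : ZMod p) (hχ : ∀ a, χ (φ a) = α * χ a) (z : A) (hz : χ z ≠ 0) :
    ∃ (w : A) (l : ℕ), φ w = w ^ l ∧ χ w ≠ 0 := by
  classical
  have hχone : χ 1 = 0 := by
    have := hχ1 1 1
    rw [mul_one] at this
    exact left_eq_add.1 this
  have hχpow : ∀ (a : A) (k : ℕ), χ (a ^ k) = k * χ a := by
    intro a k
    induction k with
    | zero => rw [pow_zero, hχone, Nat.cast_zero, zero_mul]
    | succ k ih => rw [pow_succ, hχ1, ih]; push_cast; ring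
  have hχit : ∀ (i : ℕ) (a : A), χ (φ^[i] a) = α ^ i * χ a := by
    intro i
    induction i with
    | zero => intro a; rw [Function.iterate_zero, id, pow_zero, one_mul]
    | succ i ih => intro a; rw [Function.iterate_succ_apply', hχ, ih]; ring
  have hαm : α ^ m = 1 := by
    have h1 := hχit m z
    rw [hm] at h1
    have h2 : (α ^ m - 1) * χ z = 0 := by linear_combination -h1
    rcases mul_eq_zero.1 h2 with h3 | h3
    · exact sub_eq_zero.1 h3
    · exact absurd h3 hz
  have hα0 : α ≠ 0 := by
    intro h0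
    have hm0 : m ≠ 0 := fun h => hpm (by rw [h]; exact dvd_zero p)
    rw [h0, zero_pow hm0] at hαm
    exact zero_ne_one hαm
  obtain ⟨N, hN⟩ := IsPGroup.iff_card.1 hA
  have hexp : ∀ a : A, a ^ p ^ N = 1 := by
    intro a
    rw [← hN]
    exact pow_card_eq_one'
  set a₀ := α.val with ha₀
  have ha₀α : (a₀ : ZMod p) = α := ZMod.natCast_zmod_val α
  set l := a₀ ^ p ^ N with hl
  have hlα : (l : ZMod p) = α := by
    rw [hl, Nat.cast_pow, ha₀α]
    exact ZMod.pow_card_pow α
  have hlm : ∀ a : A, a ^ l ^ m = a := by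
    intro a
    have h1 : ((p : ℤ)) ∣ (a₀ : ℤ) ^ m - 1 := by
      rw [← ZMod.intCast_zmod_eq_zero_iff_dvd]
      push_cast
      rw [ha₀α, hαm, sub_self]
    have h2 := dvd_sub_pow_of_dvd_sub h1 N
    rw [one_pow, ← pow_mul, mul_comm m, pow_mul] at h2
    have h3 : ((p ^ N : ℕ) : ℤ) ∣ ((l ^ m : ℕ) : ℤ) - 1 := by
      push_cast
      refine dvd_trans ?_ h2
      exact pow_dvd_pow _ (Nat.le_succ N)
    have h4 : a ^ (((l ^ m : ℕ) : ℤ) - 1) = 1 := by
      obtain ⟨c, hc⟩ := h3
      rw [hc, zpow_mul, zpow_natCast, hexp, one_zpow]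
    rw [zpow_sub, zpow_natCast, zpow_one, mul_inv_eq_one] at h4
    exact h4
  let f : ℕ → A := fun j => (φ^[j] z) ^ l ^ (m - j)
  refine ⟨∏ i ∈ Finset.range m, (φ^[i] z) ^ l ^ (m - 1 - i), l, ?_, ?_⟩
  · rw [map_prod, ← Finset.prod_pow]
    have e1 : ∏ i ∈ Finset.range m, φ ((φ^[i] z) ^ l ^ (m - 1 - i)) =
        ∏ i ∈ Finset.range m, f (i + 1) := by
      refine Finset.prod_congr rfl fun i _ => ?_
      change _ = (φ^[i + 1] z) ^ l ^ (m - (i + 1))
      rw [map_pow, Function.iterate_succ_apply']
      congr 2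
      omega
    have e2 : ∏ i ∈ Finset.range m, ((φ^[i] z) ^ l ^ (m - 1 - i)) ^ l =
        ∏ i ∈ Finset.range m, f i := by
      refine Finset.prod_congr rfl fun i hi => ?_
      rw [Finset.mem_range] at hi
      change _ = (φ^[i] z) ^ l ^ (m - i)
      rw [← pow_mul, ← pow_succ]
      congr 2
      omega
    rw [e1, e2]
    have h1 := Finset.prod_range_succ f m
    have h2 := Finset.prod_range_succ' f m
    have h3 : f 0 = z := by
      change (φ^[0] z) ^ l ^ (m - 0) = z
      rw [Function.iterate_zero, id, Nat.sub_zero, hlm]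
    have h4 : f m = z := by
      change (φ^[m] z) ^ l ^ (m - m) = z
      rw [hm, Nat.sub_self, pow_zero, pow_one]
    rw [h1, h3, h4] at h2
    exact (mul_right_cancel h2).symm
  · have hχprod : ∀ (s : Finset ℕ) (g : ℕ → A), χ (∏ i ∈ s, g i) = ∑ i ∈ s, χ (g i) := by
      intro s g
      induction s using Finset.induction_on with
      | empty => rw [Finset.prod_empty, Finset.sum_empty, hχone]
      | insert a s ha ih => rw [Finset.prod_insert ha, Finset.sum_insert ha, hχ1, ih]
    rw [hχprod]
    have h1 : ∀ i ∈ Finset.range m, χ ((φ^[i] z) ^ l ^ (m - 1 - i)) = α ^ (m - 1) * χ z := by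
      intro i hi
      rw [Finset.mem_range] at hi
      rw [hχpow, hχit, Nat.cast_pow, hlα, ← mul_assoc, ← pow_add]
      congr 2
      omega
    rw [Finset.sum_congr rfl h1, Finset.sum_const, Finset.card_range, nsmul_eq_mul]
    refine mul_ne_zero ?_ (mul_ne_zero (pow_ne_zero _ hα0) hz)
    rw [Ne, CharP.cast_eq_zero_iff (ZMod p) p]
    exact hpm

theorem cyc_lift {G : Type*} [Group G] [Finite G] {x : G} (hcop : (orderOf x).Coprime p)
    (χ : G → ZMod p) (α : ZMod p) (n : ℕ) :
    ∀ Q : Subgroup G, Nat.card Q ≤ n → IsPGroup p Q → x ∈ normalizer (Q : Set G) →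
      (∀ q ∈ Q, ∀ q' ∈ Q, χ (q * q') = χ q + χ q') → (∀ q ∈ Q, χ (x * q * x⁻¹) = α * χ q) →
      (∃ q ∈ Q, χ q ≠ 0) → ∃ u ∈ Q, χ u ≠ 0 ∧ ∃ l : ℕ, x * u * x⁻¹ = u ^ l := by
  induction n with
  | zero =>
    intro Q hn
    exact absurd hn (by have : 0 < Nat.card Q := Nat.card_pos; omega)
  | succ n ih =>
    intro Q hn hQ hx hadd hact hne
    have hxq : ∀ q : Q, x * q * x⁻¹ ∈ Q := fun q => (Subgroup.mem_normalizer_iff.1 hx q).1 q.2
    let φ : Q →* Q :=
      { toFun := fun q => ⟨x * q * x⁻¹, hxq q⟩
        map_one' := Subtype.ext (by simp)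
        map_mul' := fun a b => Subtype.ext (by
          change x * ((a : G) * b) * x⁻¹ = x * a * x⁻¹ * (x * b * x⁻¹)
          group) }
    have hφit : ∀ (i : ℕ) (q : Q), ((φ^[i] q : Q) : G) = x ^ i * q * (x ^ i)⁻¹ := by
      intro i
      induction i with
      | zero => intro q; simp
      | succ i ih =>
        intro q
        rw [Function.iterate_succ_apply']
        change x * ((φ^[i] q : Q) : G) * x⁻¹ = _
        rw [ih, pow_succ']
        group
    let χQ : Q →* Multiplicative (ZMod p) := MonoidHom.mk' (fun q => Multiplicative.ofAdd (χ q))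
      (fun a b => by
        change Multiplicative.ofAdd (χ ((a : G) * b)) = _
        rw [hadd a a.2 b b.2]; rfl)
    let ψ : Abelianization Q →* Abelianization Q := Abelianization.map φ
    have hψit : ∀ (i : ℕ) (q : Q), ψ^[i] (Abelianization.of q) = Abelianization.of (φ^[i] q) := by
      intro i
      induction i with
      | zero => intro q; rfl
      | succ i ih =>
        intro q
        rw [Function.iterate_succ_apply', ih, Function.iterate_succ_apply']
        rfl
    obtain ⟨q₀, hq₀, hχq₀⟩ := hne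
    have hab : IsPGroup p (Abelianization Q) :=
      hQ.of_surjective (Abelianization.of : Q →* Abelianization Q) (QuotientGroup.mk_surjective)
    have hfin : Finite (Abelianization Q) :=
      Finite.of_surjective (Abelianization.of : Q →* Abelianization Q) QuotientGroup.mk_surjective
    obtain ⟨wb, l, hwl, hw0⟩ := abel_lift (A := Abelianization Q) hab ψ (orderOf x)
      (by
        intro a
        obtain ⟨q, rfl⟩ := QuotientGroup.mk_surjective a
        change ψ^[orderOf x] (Abelianization.of q) = Abelianization.of q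
        rw [hψit]
        congr 1
        apply Subtype.ext
        rw [hφit, pow_orderOf_eq_one]
        group)
      (by
        intro h
        have := (Nat.Prime.coprime_iff_not_dvd hpf.out).1 hcop.symm
        exact this h)
      (fun a => Multiplicative.toAdd (Abelianization.lift χQ a))
      (by intro a b; rw [map_mul]; rfl) α
      (by
        intro a
        obtain ⟨q, rfl⟩ := QuotientGroup.mk_surjective a
        exact hact q q.2)
      (Abelianization.of ⟨q₀, hq₀⟩) hχq₀
    obtain ⟨w, rfl⟩ := QuotientGroup.mk_surjective wb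
    have hw0' : χ w ≠ 0 := hw0
    have hwl' : (w ^ l)⁻¹ * φ w ∈ commutator Q := by
      rw [← QuotientGroup.eq]
      exact hwl.symm
    by_cases htop : zpowers w ⊔ commutator Q = ⊤
    · -- `Q` is cyclic
      have h1 : zpowers w ⊔ frattini Q = ⊤ := by
        rw [eq_top_iff, ← htop]
        exact sup_le_sup_left (Lib.FrattiniPGroup.commutator_le_frattini hQ) _
      have h2 : zpowers w = ⊤ := frattini_nongenerating h1
      have h3 : φ w ∈ zpowers w := by rw [h2]; trivial
      rw [← mem_powers_iff_mem_zpowers] at h3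
      obtain ⟨k, hk⟩ := h3
      refine ⟨w, w.2, hw0', k, ?_⟩
      have h4 := congrArg Subtype.val hk
      exact h4.symm
    · -- a proper invariant subgroup
      set Q₁ : Subgroup G := (zpowers w ⊔ commutator Q).map Q.subtype with hQ₁
      have hQ₁Q : Q₁ ≤ Q := map_subtype_le _
      have hlt : Nat.card Q₁ < Nat.card Q := by
        have h1 : Nat.card Q₁ = Nat.card (zpowers w ⊔ commutator Q : Subgroup Q) :=
          (Nat.card_congr ((zpowers w ⊔ commutator Q).equivMapOfInjective _
            Q.subtype_injective).toEquiv).symm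
        rw [h1]
        have h2 := (zpowers w ⊔ commutator Q).card_mul_index
        have h3 : (zpowers w ⊔ commutator Q).index ≠ 1 := by
          rw [Ne, Subgroup.index_eq_one]; exact htop
        have h4 : 0 < (zpowers w ⊔ commutator Q).index := Nat.pos_of_ne_zero
          Subgroup.index_ne_zero_of_finite
        have h5 : 0 < Nat.card (zpowers w ⊔ commutator Q : Subgroup Q) := Nat.card_pos
        have h6 : 2 ≤ (zpowers w ⊔ commutator Q).index := by omega
        nlinarith
      have hwQ₁ : (w : G) ∈ Q₁ := ⟨w, le_sup_left (b := commutator Q) (mem_zpowers w), rfl⟩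
      have hinv : ∀ q ∈ zpowers w ⊔ commutator Q, φ q ∈ zpowers w ⊔ commutator Q := by
        intro q hq
        have h1 : zpowers w ⊔ commutator Q ≤ (zpowers w ⊔ commutator Q).comap φ := by
          refine sup_le ?_ ?_
          · rw [zpowers_le, mem_comap]
            have h2 : φ w = w ^ l * ((w ^ l)⁻¹ * φ w) := by group
            rw [h2]
            exact mul_mem (pow_mem (le_sup_left (b := commutator Q) (mem_zpowers w)) l)
              (le_sup_right (a := zpowers w) hwl')
          · rw [← Subgroup.map_le_iff_le_comap]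
            refine le_trans ?_ le_sup_right
            rw [commutator_def, Subgroup.map_commutator]
            exact Subgroup.commutator_mono le_top le_top
        exact h1 hq
      have hxQ₁ : x ∈ normalizer (Q₁ : Set G) := by
        rw [mem_normalizer_iff_map_conj]
        apply map_conj_le_of_le_normalizer
        rintro _ ⟨_, ⟨q, hq, rfl⟩, rfl⟩
        exact ⟨φ q, hinv q hq, rfl⟩
      obtain ⟨u, hu, hu0, k, hk⟩ := ih Q₁ (by omega) (hQ.to_le hQ₁Q) hxQ₁
        (fun q hq q' hq' => hadd q (hQ₁Q hq) q' (hQ₁Q hq')) (fun q hq => hact q (hQ₁Q hq))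
        ⟨w, hwQ₁, hw0'⟩
      exact ⟨u, hQ₁Q hu, hu0, k, hk⟩

end Cfsg.Agent.H219.CycLift
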