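import Cfsg.Agent.Walter.GlaubermanFusion

/-!
Configurations of type `F(p)` in a finite group, relative to a Sylow subgroup and a subgroup of `Z(J(S))`.
-/

set_option autoImplicit false

namespace Cfsg.Agent.H219.Conf

open Subgroup
open Cfsg.Agent.Lib.GoldschmidtFusion
open Cfsg.Agent.Walter.GlaubermanFusion

universe u

variable {p : ℕ} {G : Type*} [Group G]

/-- `Q⟨x⟩` acts on a section of order `p²` of `W` as a Borel subgroup of `SL₂(p)`. -/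
structure Core (p : ℕ) (lam : ZMod p) (W Q : Subgroup G) (e1 e2 : G → ZMod p) (x : G) : Prop where
  le : W ≤ Q
  xQ : x ∈ normalizer (Q : Set G)
  xW : x ∈ normalizer (W : Set G)
  add : ∀ w ∈ W, ∀ w' ∈ W, e1 (w * w') = e1 w + e1 w' ∧ e2 (w * w') = e2 w + e2 w'
  sur : ∀ s t, ∃ w ∈ W, e1 w = s ∧ e2 w = t
  act : ∀ q ∈ Q, ∃ c, ∀ w ∈ W, q * w * q⁻¹ ∈ W ∧ e1 (q * w * q⁻¹) = e1 w + c * e2 w ∧
    e2 (q * w * q⁻¹) = e2 w
  ntr : ∃ q ∈ Q, ∃ c, c ≠ 0 ∧ ∀ w ∈ W, e1 (q * w * q⁻¹) = e1 w + c * e2 w ∧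
    e2 (q * w * q⁻¹) = e2 w
  tor : ∀ w ∈ W, e1 (x * w * x⁻¹) = lam * e1 w ∧ e2 (x * w * x⁻¹) = lam⁻¹ * e2 w

/-- The configuration, relative to `S`, `M` and `Z`. -/
def FConf (p : ℕ) (lam : ZMod p) (S M Z : Subgroup G) : Prop :=
  ∃ (W Q : Subgroup G) (e1 e2 : G → ZMod p) (x : G), Core p lam W Q e1 e2 x ∧ Q ≤ S ∧ x ∈ M ∧
    ∃ z ∈ Z, z ∈ W ∧ e1 z = 1 ∧ e2 z = 0

variable {lam : ZMod p} {S M Z : Subgroup G}

theorem FConf.mono (h : FConf p lam S M Z) {S' M' Z' : Subgroup G} (hS : S ≤ S') (hM : M ≤ M')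
    (hZ : Z ≤ Z') : FConf p lam S' M' Z' := by
  obtain ⟨W, Q, e1, e2, x, hc, hQ, hx, z, hz, hzW⟩ := h
  exact ⟨W, Q, e1, e2, x, hc, hQ.trans hS, hM hx, z, hZ hz, hzW⟩

/-- Replacing `x` by an element of `H` acting in the same way on `Q`. -/
theorem FConf.transfer (h : FConf p lam S M Z) {H : Subgroup G}
    (hg : ∀ Q ≤ S, ∀ x ∈ M, x ∈ normalizer (Q : Set G) → Good H Q x) : FConf p lam S H Z := by
  obtain ⟨W, Q, e1, e2, x, hc, hQ, hx, hz⟩ := h
  obtain ⟨n, hn, c, hcQ, rfl⟩ := hg Q hQ x hx hc.xQ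
  have hcW : c ∈ centralizer (W : Set G) := centralizer_le (by exact_mod_cast hc.le) hcQ
  refine ⟨W, Q, e1, e2, n, ⟨hc.le, ?_, ?_, hc.add, hc.sur, hc.act, hc.ntr, ?_⟩, hQ, hn, hz⟩
  · have h1 := mul_mem hc.xQ (inv_mem (centralizer_le_normalizer (Q : Set G) hcQ))
    rwa [mul_inv_cancel_right] at h1
  · have h1 := mul_mem hc.xW (inv_mem (centralizer_le_normalizer (W : Set G) hcW))
    rwa [mul_inv_cancel_right] at h1
  · intro w hw
    have h1 := hc.tor w hw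
    have h2 : n * c * w * (n * c)⁻¹ = n * w * n⁻¹ := by
      have h3 := conj_eq_of_mem_centralizer hcW hw
      calc n * c * w * (n * c)⁻¹ = n * (c * w * c⁻¹) * n⁻¹ := by group
        _ = n * w * n⁻¹ := by rw [h3]
    rwa [h2] at h1

/-- Conjugation. -/
theorem FConf.conj (h : FConf p lam S M Z) (g : G) :
    FConf p lam (S.map (MulAut.conj g).toMonoidHom) (M.map (MulAut.conj g).toMonoidHom)
      (Z.map (MulAut.conj g).toMonoidHom) := by
  obtain ⟨W, Q, e1, e2, x, hc, hQ, hx, z, hz, hzW, hz1, hz2⟩ := h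
  refine ⟨W.map (MulAut.conj g).toMonoidHom, Q.map (MulAut.conj g).toMonoidHom,
    fun y => e1 (g⁻¹ * y * g), fun y => e2 (g⁻¹ * y * g), g * x * g⁻¹, ?_, map_conj_mono hQ g,
    conj_mem_map_conj hx g, g * z * g⁻¹, conj_mem_map_conj hz g, conj_mem_map_conj hzW g, ?_, ?_⟩
  · refine ⟨map_conj_mono hc.le g, ?_, ?_, ?_, ?_, ?_, ?_, ?_⟩
    · rw [← map_conj_normalizer]
      exact conj_mem_map_conj hc.xQ g
    · rw [← map_conj_normalizer]
      exact conj_mem_map_conj hc.xW g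
    · intro w hw w' hw'
      rw [mem_map_conj] at hw hw'
      have e : g⁻¹ * (w * w') * g = (g⁻¹ * w * g) * (g⁻¹ * w' * g) := by group
      simp only [e]
      exact hc.add _ hw _ hw'
    · intro s t
      obtain ⟨w, hw, hs, ht⟩ := hc.sur s t
      have e : g⁻¹ * (g * w * g⁻¹) * g = w := by group
      exact ⟨g * w * g⁻¹, conj_mem_map_conj hw g, by simp only [e, hs], by simp only [e, ht]⟩
    · intro q hq
      rw [mem_map_conj] at hq
      obtain ⟨c, hc'⟩ := hc.act _ hq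
      refine ⟨c, ?_⟩
      intro w hw
      rw [mem_map_conj] at hw ⊢
      have e : g⁻¹ * (q * w * q⁻¹) * g = g⁻¹ * q * g * (g⁻¹ * w * g) * (g⁻¹ * q * g)⁻¹ := by group
      simp only [e]
      exact hc' _ hw
    · obtain ⟨q, hq, c, hc0, hc'⟩ := hc.ntr
      refine ⟨g * q * g⁻¹, conj_mem_map_conj hq g, c, hc0, ?_⟩
      intro w hw
      rw [mem_map_conj] at hw
      have e : g⁻¹ * (g * q * g⁻¹ * w * (g * q * g⁻¹)⁻¹) * g = q * (g⁻¹ * w * g) * q⁻¹ := by group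
      simp only [e]
      exact hc' _ hw
    · intro w hw
      rw [mem_map_conj] at hw
      have e : g⁻¹ * (g * x * g⁻¹ * w * (g * x * g⁻¹)⁻¹) * g = x * (g⁻¹ * w * g) * x⁻¹ := by group
      simp only [e]
      exact hc.tor _ hw
  · have e : g⁻¹ * (g * z * g⁻¹) * g = z := by group
    simp only [e, hz1]
  · have e : g⁻¹ * (g * z * g⁻¹) * g = z := by group
    simp only [e, hz2]

/-- Configurations of a subgroup are configurations of the group. -/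
theorem FConf.of_subgroup {K : Subgroup G} {S M Z : Subgroup K} (h : FConf p lam S M Z) :
    FConf p lam (S.map K.subtype) (M.map K.subtype) (Z.map K.subtype) := by
  classical
  obtain ⟨W, Q, e1, e2, x, hc, hQ, hx, z, hz, hzW, hz1, hz2⟩ := h
  let f1 : G → ZMod p := fun v => if h : v ∈ K then e1 ⟨v, h⟩ else 0
  let f2 : G → ZMod p := fun v => if h : v ∈ K then e2 ⟨v, h⟩ else 0
  have hf1 : ∀ w : K, f1 w = e1 w := by
    intro w
    change (if h : (w : G) ∈ K then e1 ⟨w, h⟩ else 0) = e1 w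
    rw [dif_pos w.2]
  have hf2 : ∀ w : K, f2 w = e2 w := by
    intro w
    change (if h : (w : G) ∈ K then e2 ⟨w, h⟩ else 0) = e2 w
    rw [dif_pos w.2]
  have hnorm : ∀ (A : Subgroup K) (y : K), y ∈ normalizer (A : Set K) →
      (y : G) ∈ normalizer ((A.map K.subtype : Subgroup G) : Set G) := by
    intro A y hy
    rw [mem_normalizer_iff_map_conj] at hy ⊢
    rw [← map_subtype_conj, hy]
  refine ⟨W.map K.subtype, Q.map K.subtype, f1, f2, x, ?_, map_mono hQ, ⟨x, hx, rfl⟩, z, ⟨z, hz, rfl⟩,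
    ⟨z, hzW, rfl⟩, by rw [hf1, hz1], by rw [hf2, hz2]⟩
  refine ⟨map_mono hc.le, hnorm _ _ hc.xQ, hnorm _ _ hc.xW, ?_, ?_, ?_, ?_, ?_⟩
  · rintro _ ⟨w, hw, rfl⟩ _ ⟨w', hw', rfl⟩
    change f1 ((w * w' : K) : G) = f1 w + f1 w' ∧ f2 ((w * w' : K) : G) = f2 w + f2 w'
    rw [hf1, hf1, hf1, hf2, hf2, hf2]
    exact hc.add _ hw _ hw'
  · intro s t
    obtain ⟨w, hw, hs, ht⟩ := hc.sur s t
    exact ⟨w, ⟨w, hw, rfl⟩, (hf1 _).trans hs, (hf2 _).trans ht⟩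
  · rintro _ ⟨q, hq, rfl⟩
    obtain ⟨c, hc'⟩ := hc.act _ hq
    refine ⟨c, ?_⟩
    rintro _ ⟨w, hw, rfl⟩
    obtain ⟨h1, h2, h3⟩ := hc' w hw
    refine ⟨⟨_, h1, rfl⟩, ?_, ?_⟩
    · change f1 ((q * w * q⁻¹ : K) : G) = f1 w + c * f2 w
      rw [hf1, hf1, hf2, h2]
    · change f2 ((q * w * q⁻¹ : K) : G) = f2 w
      rw [hf2, hf2, h3]
  · obtain ⟨q, hq, c, hc0, hc'⟩ := hc.ntr
    refine ⟨q, ⟨q, hq, rfl⟩, c, hc0, ?_⟩
    rintro _ ⟨w, hw, rfl⟩
    obtain ⟨h2, h3⟩ := hc' w hw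
    refine ⟨?_, ?_⟩
    · change f1 ((q * w * q⁻¹ : K) : G) = f1 w + c * f2 w
      rw [hf1, hf1, hf2, h2]
    · change f2 ((q * w * q⁻¹ : K) : G) = f2 w
      rw [hf2, hf2, h3]
  · rintro _ ⟨w, hw, rfl⟩
    obtain ⟨h2, h3⟩ := hc.tor w hw
    refine ⟨?_, ?_⟩
    · change f1 ((x * w * x⁻¹ : K) : G) = lam * f1 w
      rw [hf1, hf1, h2]
    · change f2 ((x * w * x⁻¹ : K) : G) = lam⁻¹ * f2 w
      rw [hf2, hf2, h3]

variable {Gb : Type*} [Group Gb]

theorem mem_normalizer_comap {φ : G →* Gb} {A : Subgroup Gb} {x : G}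
    (hx : φ x ∈ normalizer (A : Set Gb)) : x ∈ normalizer ((A.comap φ : Subgroup G) : Set G) := by
  rw [Subgroup.mem_normalizer_iff] at hx ⊢
  intro h
  have h1 := hx (φ h)
  simp only [mem_comap, map_mul, map_inv] at h1 ⊢
  exact h1

/-- Configurations of a quotient, full preimages. -/
theorem FConf.comap {φ : G →* Gb} (hφ : Function.Surjective φ) {S M Z : Subgroup Gb}
    (h : FConf p lam S M Z) {Z' : Subgroup G} (hZ : Z ≤ Z'.map φ) :
    FConf p lam (S.comap φ) (M.comap φ) Z' := by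
  obtain ⟨W, Q, e1, e2, xb, hc, hQ, hx, zb, hz, hzW, hz1, hz2⟩ := h
  obtain ⟨x, rfl⟩ := hφ xb
  obtain ⟨z, hz', rfl⟩ := hZ hz
  refine ⟨W.comap φ, Q.comap φ, fun y => e1 (φ y), fun y => e2 (φ y), x, ?_, comap_mono hQ, hx,
    z, hz', hzW, hz1, hz2⟩
  refine ⟨comap_mono hc.le, mem_normalizer_comap hc.xQ, mem_normalizer_comap hc.xW, ?_, ?_, ?_, ?_, ?_⟩
  · intro w hw w' hw'
    have := hc.add _ hw _ hw'
    simpa only [map_mul] using this
  · intro s t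
    obtain ⟨wb, hw, hs, ht⟩ := hc.sur s t
    obtain ⟨w, rfl⟩ := hφ wb
    exact ⟨w, hw, hs, ht⟩
  · intro q hq
    obtain ⟨c, hc'⟩ := hc.act _ hq
    refine ⟨c, fun w hw => ?_⟩
    have := hc' _ hw
    simpa only [mem_comap, map_mul, map_inv] using this
  · obtain ⟨qb, hq, c, hc0, hc'⟩ := hc.ntr
    obtain ⟨q, rfl⟩ := hφ qb
    refine ⟨q, hq, c, hc0, fun w hw => ?_⟩
    have := hc' _ hw
    simpa only [map_mul, map_inv] using this
  · intro w hw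
    have := hc.tor _ hw
    simpa only [map_mul, map_inv] using this

/-- Configurations modulo a normal subgroup of order prime to `p`. -/
theorem FConf.lift_coprime [Finite G] [hpf : Fact p.Prime] {φ : G →* Gb}
    (hφ : Function.Surjective φ) (hk : (Nat.card φ.ker).Coprime p) {S Z : Subgroup G}
    (hS : IsPGroup p S) (hZS : Z ≤ S)
    (h : FConf p lam (S.map φ) (normalizer ((Z.map φ : Subgroup Gb) : Set Gb)) (Z.map φ)) :
    FConf p lam S (normalizer (Z : Set G)) Z := by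
  obtain ⟨Wb, Qb, e1, e2, xb, hc, hQ, hx, zb, ⟨z, hz, rfl⟩, hzW, hz1, hz2⟩ := h
  have hinj : ∀ s ∈ S, ∀ t ∈ S, φ s = φ t → s = t := by
    intro s hs t ht hst
    have h1 : s⁻¹ * t ∈ S ⊓ φ.ker := by
      refine ⟨S.mul_mem (S.inv_mem hs) ht, ?_⟩
      change φ (s⁻¹ * t) = 1
      rw [map_mul, map_inv, hst, inv_mul_cancel]
    rw [PLocal.PConstrained.inf_eq_bot_of_isPGroup_of_coprime hS hk, mem_bot] at h1
    exact inv_mul_eq_one.1 h1
  set Q := S ⊓ Qb.comap φ with hQdef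
  set W := S ⊓ Wb.comap φ with hWdef
  have hQmap : Q.map φ = Qb := by
    apply le_antisymm
    · rintro _ ⟨q, hq, rfl⟩
      exact hq.2
    · intro q hq
      obtain ⟨s, hs, rfl⟩ := hQ hq
      exact ⟨s, ⟨hs, hq⟩, rfl⟩
  have hQS : Q ≤ S := inf_le_left
  have hWS : W ≤ S := inf_le_left
  set D := Z ⊔ Q with hD
  have hDS : D ≤ S := sup_le hZS hQS
  have hDp : IsPGroup p D := hS.to_le hDS
  have hxD : xb ∈ normalizer ((D.map φ : Subgroup Gb) : Set Gb) := by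
    have e : D.map φ = Z.map φ ⊔ Qb := by rw [hD, Subgroup.map_sup, hQmap]
    rw [e, mem_normalizer_iff_map_conj, Subgroup.map_sup, mem_normalizer_iff_map_conj.1 hx,
      mem_normalizer_iff_map_conj.1 hc.xQ]
  rw [← PLocal.PConstrained.map_normalizer_eq φ hφ hk hDp] at hxD
  obtain ⟨x, hxN, rfl⟩ := hxD
  -- conjugation by `x` preserves `S ∩ φ⁻¹(A)` for `A` normalized by `φ x`
  have hpres : ∀ (A : Subgroup G) (B : Subgroup Gb), A ≤ D → (∀ a ∈ A, φ a ∈ B) →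
      (∀ s ∈ S, φ s ∈ B → s ∈ A) → φ x ∈ normalizer (B : Set Gb) → x ∈ normalizer (A : Set G) := by
    intro A B hAD hAB hBA hxB
    rw [mem_normalizer_iff_map_conj]
    apply map_conj_le_of_le_normalizer
    rintro _ ⟨a, ha, rfl⟩
    change x * a * x⁻¹ ∈ A
    have h1 : x * a * x⁻¹ ∈ D := (Subgroup.mem_normalizer_iff.1 hxN a).1 (hAD ha)
    refine hBA _ (hDS h1) ?_
    rw [map_mul, map_mul, map_inv]
    exact (Subgroup.mem_normalizer_iff.1 hxB _).1 (hAB a ha)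
  have hxZ : x ∈ normalizer (Z : Set G) := by
    refine hpres Z (Z.map φ) le_sup_left (fun a ha => ⟨a, ha, rfl⟩) ?_ hx
    rintro s hs ⟨t, ht, hts⟩
    rw [← hinj t (hZS ht) s hs hts]
    exact ht
  have hxQ : x ∈ normalizer (Q : Set G) :=
    hpres Q Qb le_sup_right (fun a ha => ha.2) (fun s hs hsQ => ⟨hs, hsQ⟩) hc.xQ
  have hWQ : W ≤ Q := fun w hw => ⟨hw.1, hc.le hw.2⟩
  have hxW : x ∈ normalizer (W : Set G) :=
    hpres W Wb (hWQ.trans le_sup_right) (fun a ha => ha.2) (fun s hs hsQ => ⟨hs, hsQ⟩) hc.xW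
  refine ⟨W, Q, fun y => e1 (φ y), fun y => e2 (φ y), x, ?_, hQS, hxZ, z, hz, ⟨hZS hz, hzW⟩,
    hz1, hz2⟩
  refine ⟨hWQ, hxQ, hxW, ?_, ?_, ?_, ?_, ?_⟩
  · intro w hw w' hw'
    have := hc.add _ hw.2 _ hw'.2
    simpa only [map_mul] using this
  · intro s t
    obtain ⟨wb, hw, hs, ht⟩ := hc.sur s t
    obtain ⟨w, hwS, rfl⟩ := hQ (hc.le hw)
    exact ⟨w, ⟨hwS, hw⟩, hs, ht⟩
  · intro q hq
    obtain ⟨c, hc'⟩ := hc.act _ hq.2
    refine ⟨c, fun w hw => ?_⟩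
    have := hc' _ hw.2
    rw [← map_inv, ← map_mul, ← map_mul] at this
    exact ⟨⟨S.mul_mem (S.mul_mem hq.1 hw.1) (S.inv_mem hq.1), this.1⟩, this.2⟩
  · obtain ⟨qb, hq, c, hc0, hc'⟩ := hc.ntr
    obtain ⟨q, hqS, rfl⟩ := hQ hq
    refine ⟨q, ⟨hqS, hq⟩, c, hc0, fun w hw => ?_⟩
    have := hc' _ hw.2
    simpa only [map_mul, map_inv] using this
  · intro w hw
    have := hc.tor _ hw.2
    simpa only [map_mul, map_inv] using this

end Cfsg.Agent.H219.Conf
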