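import Cfsg.Agent.H960.KGV.Core
import Cfsg.Agent.H540.ClassNum

/-!
# TEAM KGV: `core_ext_le` (helper219)
-/

set_option autoImplicit false

namespace Cfsg.Agent.H219.KGVExt

open Cfsg Cfsg.Agent.H960.KGV Subgroup
open Cfsg.Agent.H540.ClassNum

/-- a group with a central subgroup `B ≥ Z(Y)` of index `r ^ n` -/
theorem class_le {Y : Type*} [Group Y] [Finite Y] (B : Subgroup Y) {r n : ℕ} (hr : r.Prime) (hB : B ≤ center Y)
    (hZ : center Y ≤ B) (hn : B.index = r ^ n) :
    r * Nat.card (ConjClasses Y) ≤ Nat.card B * (r ^ n + r - 1) := by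
  classical
  have := Fintype.ofFinite Y
  have hY : 0 < Nat.card Y := Nat.card_pos
  have key : ∀ y : Y, r * cent y (⊤ : Subgroup Y) ≤ Nat.card Y * (1 + if y ∈ B then r - 1 else 0) := by
    intro y
    have hr1 := hr.one_lt
    by_cases hy : y ∈ B
    · rw [if_pos hy, mul_comm]
      refine Nat.mul_le_mul ?_ (by omega)
      rw [cent_top]
      exact card_le_card_group _
    · rw [if_neg hy, add_zero, mul_one, cent_top]
      have h1 := (centralizer ({y} : Set Y)).card_mul_index
      have h2 : (centralizer ({y} : Set Y)).index ∣ r ^ n := by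
        rw [← hn]
        apply index_dvd_of_le
        intro b hb
        rw [mem_centralizer_singleton_iff]
        exact (mem_center_iff.1 (hB hb) y).symm
      have h3 : (centralizer ({y} : Set Y)).index ≠ 1 := by
        intro h3
        apply hy
        apply hZ
        rw [index_eq_one] at h3
        rw [mem_center_iff]
        intro g
        have : g ∈ centralizer ({y} : Set Y) := by rw [h3]; exact mem_top g
        exact mem_centralizer_singleton_iff.1 this
      obtain ⟨k, -, hk⟩ := (Nat.dvd_prime_pow hr).1 h2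
      have h4 : r ≤ (centralizer ({y} : Set Y)).index := by
        rw [hk]
        rcases Nat.eq_zero_or_pos k with h0 | h0
        · rw [h0, pow_zero] at hk
          exact absurd hk h3
        · calc r = r ^ 1 := (pow_one r).symm
            _ ≤ r ^ k := Nat.pow_le_pow_right hr.pos h0
      calc r * Nat.card (centralizer ({y} : Set Y)) ≤
          (centralizer ({y} : Set Y)).index * Nat.card (centralizer ({y} : Set Y)) := Nat.mul_le_mul_right _ h4
        _ = Nat.card Y := by rw [mul_comm]; exact h1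
  have h1 : r * Nat.card (ConjClasses Y) * Nat.card Y ≤ (Nat.card Y + Nat.card B * (r - 1)) * Nat.card Y := by
    rw [mul_assoc, card_conjClasses_mul_card, Finset.mul_sum]
    refine (Finset.sum_le_sum fun y _ => key y).trans (le_of_eq ?_)
    rw [← Finset.mul_sum, mul_comm]
    congr 1
    rw [Finset.sum_add_distrib, Finset.sum_const, Finset.card_univ, ← Nat.card_eq_fintype_card, smul_eq_mul, mul_one,
      ← Finset.sum_filter, Finset.sum_const, smul_eq_mul]
    congr 2
    rw [Nat.card_eq_fintype_card, Fintype.card_subtype]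
  have h2 := Nat.le_of_mul_le_mul_right h1 hY
  refine h2.trans (le_of_eq ?_)
  have h3 := B.card_mul_index
  rw [hn] at h3
  rw [← h3, ← Nat.mul_add]
  congr 1
  have := hr.one_lt
  omega

variable {H : Type} [Group H] {A N C : Subgroup H} {p f a : ℕ} {F : Type} [Field F] {ψ : C →* GL (Fin a) F}

theorem core_comm (h : Core A N C p f a ψ) {x y : H} (hx : x ∈ A) (hy : y ∈ C) : x * y = y * x := by
  have hxC : x ∈ C := h.NC (h.AN hx)
  obtain ⟨s, hs⟩ := (h.scal ⟨x, hxC⟩).1 hx
  have h1 : (⟨x, hxC⟩ : C) * ⟨y, hy⟩ = ⟨y, hy⟩ * ⟨x, hxC⟩ := by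
    apply h.inj
    rw [map_mul, map_mul]
    apply Units.ext
    rw [Units.val_mul, Units.val_mul, hs]
    simp
  exact congrArg Subtype.val h1

theorem core_cent (h : Core A N C p f a ψ) {x : H} (hx : x ∈ C) (hc : ∀ y ∈ N, x * y = y * x) : x ∈ A := by
  apply (h.scal ⟨x, hx⟩).2
  apply h.abs
  intro c hcN
  have h1 : (⟨x, hx⟩ : C) * c = c * ⟨x, hx⟩ := Subtype.ext (hc c hcN)
  have h2 := congrArg (fun g : C => (ψ g : Matrix (Fin a) (Fin a) F)) h1
  simpa using h2

theorem core_f_pos (h : Core A N C p f a ψ) : 0 < f := by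
  rcases Nat.eq_zero_or_pos f with h0 | h0
  · exfalso
    have h1 := h.cardF
    rw [h0, pow_zero] at h1
    have h2 : Subsingleton F := (Nat.card_eq_one_iff_unique.1 h1).1
    exact one_ne_zero (Subsingleton.elim (1 : F) 0)
  · exact h0

theorem core_card_A (h : Core A N C p f a ψ) : Nat.card A ≤ p ^ f - 1 := by
  classical
  have h1 : Finite F := by
    apply Nat.finite_of_card_ne_zero
    rw [h.cardF]
    exact pow_ne_zero _ h.prime.ne_zero
  have := h.two_le
  let i0 : Fin a := ⟨0, by omega⟩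
  have hs : ∀ x : A, ∃ s : F, (ψ ⟨x, h.NC (h.AN x.2)⟩ : Matrix (Fin a) (Fin a) F) = s • 1 := fun x => (h.scal ⟨x, _⟩).1 x.2
  choose s hs using hs
  have hs0 : ∀ x, s x ≠ 0 := by
    intro x h0
    have h2 := hs x
    rw [h0, zero_smul] at h2
    have h3 : (ψ ⟨x, h.NC (h.AN x.2)⟩ : Matrix (Fin a) (Fin a) F) * ((ψ ⟨x, h.NC (h.AN x.2)⟩)⁻¹ : GL (Fin a) F) = 1 :=
      Units.mul_inv _
    rw [h2, zero_mul] at h3
    have h4 := congrFun (congrFun h3 i0) i0
    simp at h4
  have hinj : Function.Injective (fun x : A => Units.mk0 (s x) (hs0 x)) := by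
    intro x y hxy
    have h2 : s x = s y := congrArg Units.val hxy
    have h3 : ψ ⟨x, h.NC (h.AN x.2)⟩ = ψ ⟨y, h.NC (h.AN y.2)⟩ := Units.ext (by rw [hs, hs, h2])
    exact Subtype.ext (Subtype.mk.inj (h.inj h3))
  have h2 := Nat.card_le_card_of_injective _ hinj
  rwa [Nat.card_units, h.cardF] at h2

/-- `k(Y)` for a subgroup `Y` of `N` -/
theorem core_sub (h : Core A N C p f a ψ) {r n : ℕ} (hr : r.Prime) (hn : A.relIndex N = r ^ n) (Y : Subgroup H)
    (hY : Y ≤ N) : r * Nat.card (ConjClasses Y) ≤ (p ^ f - 1) * (r ^ n + r - 1) := by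
  have := h.fin
  have hA := h.An
  refine le_trans ?_ (Nat.mul_le_mul_right _ (core_card_A h))
  have hrel : A.relIndex (Y ⊔ A) = A.relIndex Y := relIndex_sup_right _ _
  have hcardY : Nat.card (A.subgroupOf Y) * A.relIndex Y = Nat.card Y := (A.subgroupOf Y).card_mul_index
  have hAY : Nat.card (A.subgroupOf Y) ≤ Nat.card A := by
    rw [← inf_subgroupOf_right, Nat.card_congr (subgroupOfEquivOfLe (inf_le_right : A ⊓ Y ≤ Y)).toEquiv]
    exact card_le_of_le inf_le_left
  have hr1 := hr.one_lt
  by_cases hYA : Y ⊔ A = N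
  · have h1 : (A.subgroupOf Y).index = r ^ n := by
      change A.relIndex Y = r ^ n
      rw [← hrel, hYA, hn]
    refine (class_le (A.subgroupOf Y) hr ?_ ?_ h1).trans (Nat.mul_le_mul_right _ hAY)
    · intro y hy
      rw [mem_subgroupOf] at hy
      rw [mem_center_iff]
      intro g
      exact Subtype.ext (core_comm h hy (h.NC (hY g.2))).symm
    · intro y hy
      rw [mem_subgroupOf]
      rw [mem_center_iff] at hy
      apply core_cent h (h.NC (hY y.2))
      intro g hg
      rw [← hYA, mem_sup_of_normal_right] at hg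
      obtain ⟨u, hu, v, hv, rfl⟩ := hg
      have e1 : (u : H) * y = y * u := congrArg Subtype.val (hy ⟨u, hu⟩)
      have e2 : v * (y : H) = y * v := core_comm h hv (h.NC (hY y.2))
      rw [← mul_assoc, ← e1, mul_assoc, ← e2, mul_assoc]
  · have h1 : A.relIndex (Y ⊔ A) * (Y ⊔ A).relIndex N = A.relIndex N :=
      relIndex_mul_relIndex _ _ _ le_sup_right (sup_le hY h.AN)
    rw [hn, hrel] at h1
    have h2 : (Y ⊔ A).relIndex N ≠ 1 := by
      intro h2
      rw [relIndex_eq_one] at h2
      exact hYA (le_antisymm (sup_le hY h.AN) h2)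
    obtain ⟨k, -, hk⟩ := (Nat.dvd_prime_pow hr).1 (Dvd.intro_left _ h1)
    have h4 : r ≤ (Y ⊔ A).relIndex N := by
      rw [hk]
      rcases Nat.eq_zero_or_pos k with h0 | h0
      · rw [h0, pow_zero] at hk
        exact absurd hk h2
      · calc r = r ^ 1 := (pow_one r).symm
          _ ≤ r ^ k := Nat.pow_le_pow_right hr.pos h0
    calc r * Nat.card (ConjClasses Y) ≤ r * Nat.card Y := Nat.mul_le_mul_left _ card_conjClasses_le_card
      _ = Nat.card (A.subgroupOf Y) * (A.relIndex Y * r) := by rw [← hcardY]; ring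
      _ ≤ Nat.card A * (A.relIndex Y * (Y ⊔ A).relIndex N) :=
        Nat.mul_le_mul hAY (Nat.mul_le_mul_left _ h4)
      _ = Nat.card A * r ^ n := by rw [h1]
      _ ≤ Nat.card A * (r ^ n + r - 1) := Nat.mul_le_mul_left _ (by omega)

theorem core_ext_le (h : Core A N C p f a ψ) {r n : ℕ} (hr : r.Prime) (hn : A.relIndex N = r ^ n) {Q : Type} [Group Q]
    (θ : C →* Q) (hθ : ∀ c : C, θ c = 1 ↔ (c : H) ∈ N) (R : Subgroup H) :
    r * Nat.card (ConjClasses R) ≤
      f * (p ^ f - 1) * (r ^ n + r - 1) * Nat.card (ConjClasses ((R.subgroupOf C).map θ)) := by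
  have := h.fin
  have hC := h.Cn
  -- `X = R ∩ C`
  have h1 : Nat.card (ConjClasses R) ≤ f * Nat.card (ConjClasses (R.subgroupOf C)) := by
    have e1 := le_index_mul' (C.subgroupOf R)
    have e2 : (C.subgroupOf R).index ≤ f := by
      refine le_trans ?_ (Nat.le_of_dvd (core_f_pos h) h.index)
      exact Nat.le_of_dvd (Nat.pos_of_ne_zero index_ne_zero_of_finite) (relIndex_dvd_index_of_normal C R)
    have e3 : Nat.card (ConjClasses (C.subgroupOf R)) = Nat.card (ConjClasses (R.subgroupOf C)) := by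
      apply card_conjClasses_congr
      exact
        { toFun := fun x => ⟨⟨(x : R), mem_subgroupOf.1 x.2⟩, mem_subgroupOf.2 (x : R).2⟩
          invFun := fun x => ⟨⟨(x : C), mem_subgroupOf.1 x.2⟩, mem_subgroupOf.2 (x : C).2⟩
          left_inv := fun x => rfl
          right_inv := fun x => rfl
          map_mul' := fun x y => rfl }
    rw [← e3]
    exact e1.trans (Nat.mul_le_mul_right _ e2)
  -- the kernel and the image of `θ`
  let φ : R.subgroupOf C →* Q := θ.comp (R.subgroupOf C).subtype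
  have h2 := le_ker_mul_range φ
  have h3 : φ.range = (R.subgroupOf C).map θ := by
    rw [MonoidHom.range_comp, range_subtype]
  have h4 : Nat.card (ConjClasses φ.ker) = Nat.card (ConjClasses (R ⊓ N : Subgroup H)) := by
    apply card_conjClasses_congr
    exact
      { toFun := fun x => ⟨((x : R.subgroupOf C) : C), mem_subgroupOf.1 (x : R.subgroupOf C).2, (hθ _).1 x.2⟩
        invFun := fun x => ⟨⟨⟨(x : H), h.NC x.2.2⟩, mem_subgroupOf.2 x.2.1⟩, (hθ _).2 x.2.2⟩
        left_inv := fun x => rfl
        right_inv := fun x => rfl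
        map_mul' := fun x y => rfl }
  rw [h3, h4] at h2
  have h5 := core_sub h hr hn (R ⊓ N) inf_le_right
  calc r * Nat.card (ConjClasses R) ≤ r * (f * (Nat.card (ConjClasses (R ⊓ N : Subgroup H)) *
        Nat.card (ConjClasses ((R.subgroupOf C).map θ)))) :=
        Nat.mul_le_mul_left _ (h1.trans (Nat.mul_le_mul_left _ h2))
    _ = f * (r * Nat.card (ConjClasses (R ⊓ N : Subgroup H))) * Nat.card (ConjClasses ((R.subgroupOf C).map θ)) := by
        ring
    _ ≤ f * ((p ^ f - 1) * (r ^ n + r - 1)) * Nat.card (ConjClasses ((R.subgroupOf C).map θ)) :=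
        Nat.mul_le_mul_right _ (Nat.mul_le_mul_left _ h5)
    _ = _ := by ring

end Cfsg.Agent.H219.KGVExt
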