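import Cfsg.Agent.H219.NatRed

/-!
The natural section inside a finite group.
-/

set_option autoImplicit false

namespace Cfsg.Agent.H219.NatGrp

open Subgroup
open Cfsg.Agent.H219.NatIrr Cfsg.Agent.H219.NatRed

universe u v

variable {p : ℕ} [hpf : Fact p.Prime]

/-- Multiplicative version of `HasNat`. -/
def HasNatM (p : ℕ) {K : Type v} [Group K] {P : Type u} [Group P] (α : K →* MulAut P)
    (P₀ : Subgroup K) (y : P) (lam : ZMod p) : Prop :=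
  ∃ (W : Subgroup P) (e1 e2 : P → ZMod p) (Q₀ : Subgroup K) (x : K),
    y ∈ W ∧ e1 y = 1 ∧ e2 y = 0 ∧
    (∀ w ∈ W, ∀ w' ∈ W, e1 (w * w') = e1 w + e1 w' ∧ e2 (w * w') = e2 w + e2 w') ∧
    (∀ s t, ∃ w ∈ W, e1 w = s ∧ e2 w = t) ∧
    Q₀ ≤ P₀ ∧ x ∈ normalizer (P₀ : Set K) ∧ x ∈ normalizer (Q₀ : Set K) ∧
    (∀ q ∈ Q₀, ∃ c, ∀ w ∈ W, α q w ∈ W ∧ e1 (α q w) = e1 w + c * e2 w ∧ e2 (α q w) = e2 w) ∧
    (∃ q ∈ Q₀, ∃ c, c ≠ 0 ∧ ∀ w ∈ W, e1 (α q w) = e1 w + c * e2 w ∧ e2 (α q w) = e2 w) ∧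
    (∀ w ∈ W, α x w ∈ W ∧ α x⁻¹ w ∈ W ∧ e1 (α x w) = lam * e1 w ∧ e2 (α x w) = lam⁻¹ * e2 w)

theorem hasNatM_comm (hp : p ≠ 2) {K : Type v} [Group K] [Finite K] {P : Type u} [CommGroup P]
    [Finite P] [Module (ZMod p) (Additive P)] (α : K →* MulAut P) (a b : K)
    (hab : Subgroup.closure ({a, b} : Set K) = ⊤)
    (ha : ∀ x, α a (α a x * x⁻¹) = α a x * x⁻¹) (hb : ∀ x, α b (α b x * x⁻¹) = α b x * x⁻¹)
    (y : P) (hy : α a y = y) (hnp : ∃ k, ∀ n : ℕ, ∃ l, α (k ^ p ^ n) (α l y) ≠ α l y)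
    (P₀ : Subgroup K) (hP₀ : IsPGroup p P₀) (hidx : ¬ p ∣ P₀.index) (haP : a ∈ P₀)
    (lam : ZMod p) (hlam : lam ≠ 0) : HasNatM p α P₀ y lam := by
  classical
  let ρ : K →* Module.End (ZMod p) (Additive P) :=
    { toFun := fun k => (MonoidHom.toAdditive (α k).toMonoidHom).toZModLinearMap p
      map_one' := by
        apply LinearMap.ext
        intro x
        rw [map_one, Module.End.one_apply]
        rfl
      map_mul' := by
        intro k l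
        apply LinearMap.ext
        intro x
        rw [map_mul, Module.End.mul_apply]
        rfl }
  have hρ : ∀ k x, ρ k x = Additive.ofMul (α k (Additive.toMul x)) := fun k x => rfl
  have hsub : ∀ (k : K) (x : Additive P), ρ k x - x =
      Additive.ofMul (α k (Additive.toMul x) * (Additive.toMul x)⁻¹) := by
    intro k x
    rw [hρ, sub_eq_add_neg]
    rfl
  have key := hasNat_of_orbit (ρ := ρ) (a := a) (b := b) hp hab
    (by
      intro x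
      rw [hsub, hρ]
      exact congrArg Additive.ofMul (ha _))
    (by
      intro x
      rw [hsub, hρ]
      exact congrArg Additive.ofMul (hb _))
    (Additive.ofMul y)
    (by rw [hρ]; exact congrArg Additive.ofMul hy)
    (by
      obtain ⟨k, hn⟩ := hnp
      refine ⟨k, fun n => ?_⟩
      obtain ⟨l, hne⟩ := hn n
      refine ⟨l, fun h => hne ?_⟩
      rw [hρ, hρ] at h
      exact Additive.ofMul.injective h)
    P₀ hP₀ hidx haP lam hlam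
  obtain ⟨W, e1, e2, Q₀, x, hyW, h1, h2, hadd, hsur, hQ, hxP, hxQ, hq, hq', hx⟩ := key
  refine ⟨AddSubgroup.toSubgroup' W, fun v => e1 (Additive.ofMul v), fun v => e2 (Additive.ofMul v),
    Q₀, x, hyW, h1, h2, ?_, ?_, hQ, hxP, hxQ, ?_, ?_, ?_⟩
  · intro w hw w' hw'
    exact hadd _ hw _ hw'
  · intro s t
    obtain ⟨w, hw, hs, ht⟩ := hsur s t
    exact ⟨Additive.toMul w, hw, hs, ht⟩
  · intro q hqQ
    obtain ⟨c, hc⟩ := hq q hqQ
    exact ⟨c, fun w hw => hc _ hw⟩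
  · obtain ⟨q, hqQ, c, hc0, hc⟩ := hq'
    exact ⟨q, hqQ, c, hc0, fun w hw => hc _ hw⟩
  · intro w hw
    exact hx _ hw

theorem hasNatM_aux (hp : p ≠ 2) {K : Type v} [Group K] [Finite K] {P : Type u} [inst : Group P]
    [Finite P] (hmc : ∀ x y : P, x * y = y * x) (hexp : ∀ x : P, x ^ p = 1)
    (α : K →* MulAut P) (a b : K) (hab : Subgroup.closure ({a, b} : Set K) = ⊤)
    (ha : ∀ x, α a (α a x * x⁻¹) = α a x * x⁻¹) (hb : ∀ x, α b (α b x * x⁻¹) = α b x * x⁻¹)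
    (y : P) (hy : α a y = y) (hnp : ∃ k, ∀ n : ℕ, ∃ l, α (k ^ p ^ n) (α l y) ≠ α l y)
    (P₀ : Subgroup K) (hP₀ : IsPGroup p P₀) (hidx : ¬ p ∣ P₀.index) (haP : a ∈ P₀)
    (lam : ZMod p) (hlam : lam ≠ 0) : HasNatM p α P₀ y lam := by
  let instCG : CommGroup P := { inst with mul_comm := hmc }
  let instMod : Module (ZMod p) (Additive P) := AddCommGroup.zmodModule (by
    intro x
    have h1 := hexp (Additive.toMul x)
    apply Additive.toMul.injective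
    rw [toMul_nsmul, h1, toMul_zero])
  exact hasNatM_comm (P := P) hp α a b hab ha hb y hy hnp P₀ hP₀ hidx haP lam hlam

variable {G : Type u} [Group G]

/-- Conjugation on a normalized subgroup. -/
def cj (B K : Subgroup G) (hKB : ∀ k ∈ K, ∀ x ∈ B, k * x * k⁻¹ ∈ B) : K →* MulAut B where
  toFun k :=
    { toFun := fun x => ⟨(k : G) * x * (k : G)⁻¹, hKB k k.2 x x.2⟩
      invFun := fun x => ⟨(k : G)⁻¹ * x * (k : G)⁻¹⁻¹, hKB _ (K.inv_mem k.2) x x.2⟩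
      left_inv := fun x => Subtype.ext (by
        change (k : G)⁻¹ * ((k : G) * x * (k : G)⁻¹) * (k : G)⁻¹⁻¹ = x
        group)
      right_inv := fun x => Subtype.ext (by
        change (k : G) * ((k : G)⁻¹ * x * (k : G)⁻¹⁻¹) * (k : G)⁻¹ = x
        group)
      map_mul' := fun x y => Subtype.ext (by
        change (k : G) * ((x : G) * y) * (k : G)⁻¹ = (k : G) * x * (k : G)⁻¹ * ((k : G) * y * (k : G)⁻¹)
        group) }
  map_one' := by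
    ext x
    change (1 : G) * x * (1 : G)⁻¹ = x
    group
  map_mul' k l := by
    ext x
    change ((k : G) * l) * x * ((k : G) * l)⁻¹ = (k : G) * ((l : G) * x * (l : G)⁻¹) * (k : G)⁻¹
    group

theorem coe_cj (B K : Subgroup G) (hKB : ∀ k ∈ K, ∀ x ∈ B, k * x * k⁻¹ ∈ B) (k : K) (x : B) :
    ((cj B K hKB k x : B) : G) = (k : G) * x * (k : G)⁻¹ := rfl

theorem exists_natural (hp : p ≠ 2) (B : Subgroup G) [Finite G]
    (hBab : ∀ x ∈ B, ∀ y ∈ B, x * y = y * x) (hBexp : ∀ x ∈ B, x ^ p = 1)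
    (K : Subgroup G) (hKB : ∀ k ∈ K, ∀ x ∈ B, k * x * k⁻¹ ∈ B) (a b : G)
    (hab : Subgroup.closure ({a, b} : Set G) = K)
    (ha : ∀ x ∈ B, a * (a * x * a⁻¹ * x⁻¹) * a⁻¹ = a * x * a⁻¹ * x⁻¹)
    (hb : ∀ x ∈ B, b * (b * x * b⁻¹ * x⁻¹) * b⁻¹ = b * x * b⁻¹ * x⁻¹)
    (y : G) (hyB : y ∈ B) (hy : a * y * a⁻¹ = y)
    (hnp : ∃ k ∈ K, ∀ n : ℕ, ∃ l ∈ K, k ^ p ^ n * (l * y * l⁻¹) * (k ^ p ^ n)⁻¹ ≠ l * y * l⁻¹)
    (P₀ : Subgroup G) (hP₀K : P₀ ≤ K) (hP₀ : IsPGroup p P₀) (hidx : ¬ p ∣ P₀.relIndex K)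
    (haP : a ∈ P₀) (lam : ZMod p) (hlam : lam ≠ 0) :
    ∃ (W : Subgroup G) (e1 e2 : G → ZMod p) (Q₀ : Subgroup G) (x : G),
      W ≤ B ∧ y ∈ W ∧ e1 y = 1 ∧ e2 y = 0 ∧
      (∀ w ∈ W, ∀ w' ∈ W, e1 (w * w') = e1 w + e1 w' ∧ e2 (w * w') = e2 w + e2 w') ∧
      (∀ s t, ∃ w ∈ W, e1 w = s ∧ e2 w = t) ∧
      Q₀ ≤ P₀ ∧ x ∈ K ∧ x ∈ normalizer (P₀ : Set G) ∧ x ∈ normalizer (Q₀ : Set G) ∧
      x ∈ normalizer (W : Set G) ∧
      (∀ q ∈ Q₀, ∃ c, ∀ w ∈ W, q * w * q⁻¹ ∈ W ∧ e1 (q * w * q⁻¹) = e1 w + c * e2 w ∧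
        e2 (q * w * q⁻¹) = e2 w) ∧
      (∃ q ∈ Q₀, ∃ c, c ≠ 0 ∧ ∀ w ∈ W, e1 (q * w * q⁻¹) = e1 w + c * e2 w ∧
        e2 (q * w * q⁻¹) = e2 w) ∧
      (∀ w ∈ W, e1 (x * w * x⁻¹) = lam * e1 w ∧ e2 (x * w * x⁻¹) = lam⁻¹ * e2 w) := by
  classical
  have haK : a ∈ K := by rw [← hab]; exact Subgroup.subset_closure (by simp)
  have hbK : b ∈ K := by rw [← hab]; exact Subgroup.subset_closure (by simp)
  have habK : Subgroup.closure ({⟨a, haK⟩, ⟨b, hbK⟩} : Set K) = ⊤ := by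
    apply Subgroup.map_injective K.subtype_injective
    rw [MonoidHom.map_closure, Set.image_pair]
    change closure {a, b} = _
    rw [hab, ← MonoidHom.range_eq_map, Subgroup.range_subtype]
  have key := hasNatM_aux (p := p) hp (P := B) (fun x y => Subtype.ext (hBab x x.2 y y.2))
    (fun x => Subtype.ext (hBexp x x.2)) (cj B K hKB) ⟨a, haK⟩ ⟨b, hbK⟩ habK
    (fun x => Subtype.ext (ha x x.2)) (fun x => Subtype.ext (hb x x.2)) ⟨y, hyB⟩ (Subtype.ext hy)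
    (by
      obtain ⟨k, hk, hn⟩ := hnp
      refine ⟨⟨k, hk⟩, fun n => ?_⟩
      obtain ⟨l, hl, hne⟩ := hn n
      exact ⟨⟨l, hl⟩, fun h => hne (congrArg Subtype.val h)⟩)
    (P₀.subgroupOf K) (hP₀.comap_of_injective K.subtype K.subtype_injective) hidx
    (show (⟨a, haK⟩ : K) ∈ P₀.subgroupOf K from haP) lam hlam
  obtain ⟨W, e1, e2, Q₀, x, hyW, h1, h2, hadd, hsur, hQ, hxP, hxQ, hq, hq', hx⟩ := key
  let f1 : G → ZMod p := fun v => if h : v ∈ B then e1 ⟨v, h⟩ else 0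
  let f2 : G → ZMod p := fun v => if h : v ∈ B then e2 ⟨v, h⟩ else 0
  have hf1 : ∀ w : B, f1 w = e1 w := by
    intro w
    change (if h : (w : G) ∈ B then e1 ⟨w, h⟩ else 0) = e1 w
    rw [dif_pos w.2]
  have hf2 : ∀ w : B, f2 w = e2 w := by
    intro w
    change (if h : (w : G) ∈ B then e2 ⟨w, h⟩ else 0) = e2 w
    rw [dif_pos w.2]
  refine ⟨W.map B.subtype, f1, f2, Q₀.map K.subtype, x, ?_, ?_, ?_, ?_, ?_, ?_, ?_, x.2, ?_, ?_, ?_, ?_,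
    ?_, ?_⟩
  · rintro _ ⟨w, -, rfl⟩
    exact w.2
  · exact ⟨⟨y, hyB⟩, hyW, rfl⟩
  · exact (hf1 ⟨y, hyB⟩).trans h1
  · exact (hf2 ⟨y, hyB⟩).trans h2
  · rintro _ ⟨w, hw, rfl⟩ _ ⟨w', hw', rfl⟩
    have h3 := hadd _ hw _ hw'
    change f1 ((w * w' : B) : G) = f1 w + f1 w' ∧ f2 ((w * w' : B) : G) = f2 w + f2 w'
    rw [hf1, hf1, hf1, hf2, hf2, hf2]
    exact h3
  · intro s t
    obtain ⟨w, hw, hs, ht⟩ := hsur s t
    exact ⟨w, ⟨w, hw, rfl⟩, (hf1 _).trans hs, (hf2 _).trans ht⟩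
  · rintro _ ⟨q, hq, rfl⟩
    exact hQ hq
  · rw [Subgroup.mem_normalizer_iff]
    intro g
    rw [Subgroup.mem_normalizer_iff] at hxP
    constructor
    · intro hg
      exact (hxP ⟨g, hP₀K hg⟩).1 hg
    · intro hg
      have hgK : g ∈ K := by
        have h4 : g = (x : G)⁻¹ * ((x : G) * g * (x : G)⁻¹) * (x : G) := by group
        rw [h4]
        exact K.mul_mem (K.mul_mem (K.inv_mem x.2) (hP₀K hg)) x.2
      exact (hxP ⟨g, hgK⟩).2 hg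
  · rw [Subgroup.mem_normalizer_iff]
    intro g
    rw [Subgroup.mem_normalizer_iff] at hxQ
    constructor
    · rintro ⟨q, hq, rfl⟩
      exact ⟨x * q * x⁻¹, (hxQ q).1 hq, rfl⟩
    · rintro ⟨q, hq, hqg⟩
      refine ⟨x⁻¹ * q * x, ?_, ?_⟩
      · have h5 : x * (x⁻¹ * q * x) * x⁻¹ = q := by group
        have h6 : q ∈ (Q₀ : Set K) := hq
        rw [← h5] at h6
        exact (hxQ _).2 h6
      · have h4 : (q : G) = (x : G) * g * (x : G)⁻¹ := hqg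
        change (x : G)⁻¹ * q * x = g
        rw [h4]; group
  · rw [Subgroup.mem_normalizer_iff]
    intro g
    constructor
    · rintro ⟨w, hw, rfl⟩
      exact ⟨_, (hx _ hw).1, rfl⟩
    · rintro ⟨w, hw, hwg⟩
      have h3 := (hx _ hw).2.1
      refine ⟨_, h3, ?_⟩
      have h4 : (w : G) = (x : G) * g * (x : G)⁻¹ := hwg
      change ((x⁻¹ : K) : G) * w * ((x⁻¹ : K) : G)⁻¹ = g
      rw [h4, Subgroup.coe_inv]
      group
  · rintro _ ⟨q, hq1, rfl⟩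
    obtain ⟨c, hc⟩ := hq q hq1
    refine ⟨c, ?_⟩
    rintro _ ⟨w, hw, rfl⟩
    obtain ⟨h3, h4, h5⟩ := hc _ hw
    refine ⟨⟨_, h3, rfl⟩, ?_, ?_⟩
    · change f1 ((cj B K hKB q w : B) : G) = f1 w + c * f2 w
      rw [hf1, hf1, hf2]
      exact h4
    · change f2 ((cj B K hKB q w : B) : G) = f2 w
      rw [hf2, hf2]
      exact h5
  · obtain ⟨q, hq1, c, hc0, hc⟩ := hq'
    refine ⟨q, ⟨q, hq1, rfl⟩, c, hc0, ?_⟩
    rintro _ ⟨w, hw, rfl⟩
    obtain ⟨h4, h5⟩ := hc _ hw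
    refine ⟨?_, ?_⟩
    · change f1 ((cj B K hKB q w : B) : G) = f1 w + c * f2 w
      rw [hf1, hf1, hf2]
      exact h4
    · change f2 ((cj B K hKB q w : B) : G) = f2 w
      rw [hf2, hf2]
      exact h5
  · rintro _ ⟨w, hw, rfl⟩
    obtain ⟨-, -, h5, h6⟩ := hx _ hw
    refine ⟨?_, ?_⟩
    · change f1 ((cj B K hKB x w : B) : G) = lam * f1 w
      rw [hf1, hf1]
      exact h5
    · change f2 ((cj B K hKB x w : B) : G) = lam⁻¹ * f2 w
      rw [hf2, hf2]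
      exact h6

end Cfsg.Agent.H219.NatGrp
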