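import Cfsg.Agent.H301.SY.Spor
import Cfsg.Agent.SectRankFour.AutM11
import Cfsg.Agent.FooteOdd.SporMEleven
import Cfsg.Agent.S2207
import Cfsg.Agent.S0144

/-!
# S3846: the row `M₁₁` (helper219)
-/

set_option autoImplicit false

namespace Cfsg.Agent.H219.NoEM11

open Cfsg Subgroup Cfsg.Agent.H301.SY Cfsg.Agent.H459.Rad Cfsg.Agent.SporadicA.SharpFour

/-- the point stabilizer of a sharply 4-transitive group of degree 11 is not solvable -/
theorem stabilizer_not_solvable {G X : Type*} [Group G] [Finite G] [Fintype X] [DecidableEq X] [MulAction G X]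
    (h11 : Fintype.card X = 11) (hS : Sharp4 G X) (x₀ : X) : ¬ Group.IsSolvable (MulAction.stabilizer G x₀) := by
  intro hs
  have hex : ∀ s : Finset X, s.card < 11 → ∃ x, x ∉ s := by
    intro s hs
    by_contra hcon
    push Not at hcon
    have h1 : s = Finset.univ := Finset.eq_univ_of_forall hcon
    rw [h1, Finset.card_univ, h11] at hs
    omega
  let Y := SubMulAction.ofStabilizer G x₀
  have hY : ∀ y : Y, (y : X) ≠ x₀ := fun y => y.2
  have hcard : Nat.card Y = 10 := by
    have h1 : Nat.card Y = ({x₀}ᶜ : Set X).ncard := rfl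
    rw [h1, Set.ncard_compl, Set.ncard_singleton, Nat.card_eq_fintype_card, h11]
  have key : ∀ a b a' b' : X, a ≠ x₀ → b ≠ x₀ → a' ≠ x₀ → b' ≠ x₀ → a ≠ b → a' ≠ b' →
      ∃ g : G, g • x₀ = x₀ ∧ g • a = a' ∧ g • b = b' := by
    intro a b a' b' ha hb ha' hb' hab hab'
    obtain ⟨c, hc⟩ := hex {x₀, a, b} (lt_of_le_of_lt Finset.card_le_three (by norm_num))
    obtain ⟨c', hc'⟩ := hex {x₀, a', b'} (lt_of_le_of_lt Finset.card_le_three (by norm_num))
    simp only [Finset.mem_insert, Finset.mem_singleton, not_or] at hc hc'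
    obtain ⟨g, h0, h1, h2, -⟩ := hS.exists_map x₀ a b c x₀ a' b' c'
      (nodup4_iff.2 ⟨ha.symm, hb.symm, Ne.symm hc.1, hab, Ne.symm hc.2.1, Ne.symm hc.2.2⟩)
      (nodup4_iff.2 ⟨ha'.symm, hb'.symm, Ne.symm hc'.1, hab', Ne.symm hc'.2.1, Ne.symm hc'.2.2⟩)
    exact ⟨g, h0, h1, h2⟩
  have h2t : MulAction.IsMultiplyPretransitive (MulAction.stabilizer G x₀) Y 2 := by
    rw [MulAction.is_two_pretransitive_iff]
    intro a b c d hab hcd
    obtain ⟨g, h0, h1, h2⟩ := key a b c d (hY a) (hY b) (hY c) (hY d)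
      (fun h => hab (Subtype.ext h)) (fun h => hcd (Subtype.ext h))
    exact ⟨⟨g, h0⟩, Subtype.ext h1, Subtype.ext h2⟩
  have hprim : MulAction.IsPreprimitive (MulAction.stabilizer G x₀) Y :=
    MulAction.isPreprimitive_of_is_two_pretransitive h2t
  have hne : Nonempty Y := by
    have h1 : 0 < Nat.card Y := by rw [hcard]; norm_num
    exact (Nat.card_pos_iff.1 h1).1
  have hf : FaithfulSMul (MulAction.stabilizer G x₀) Y := by
    refine ⟨fun {g g'} h => ?_⟩
    obtain ⟨a, ha⟩ := hex {x₀} (by simp)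
    obtain ⟨b, hb⟩ := hex {x₀, a} (lt_of_le_of_lt Finset.card_le_two (by norm_num))
    obtain ⟨c, hc⟩ := hex {x₀, a, b} (lt_of_le_of_lt Finset.card_le_three (by norm_num))
    simp only [Finset.mem_insert, Finset.mem_singleton, not_or] at ha hb hc
    apply Subtype.ext
    refine hS.eq_of (a := x₀) (b := a) (c := b) (d := c)
      (nodup4_iff.2 ⟨Ne.symm ha, Ne.symm hb.1, Ne.symm hc.1, Ne.symm hb.2, Ne.symm hc.2.1, Ne.symm hc.2.2⟩) ?_ ?_ ?_ ?_
    · rw [g.2, g'.2]
    · exact congrArg Subtype.val (h ⟨a, ha⟩)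
    · exact congrArg Subtype.val (h ⟨b, hb.1⟩)
    · exact congrArg Subtype.val (h ⟨c, hc.1⟩)
  have hfin : Fintype Y := Fintype.ofFinite _
  obtain ⟨-, -, -, -, p, d, hp, hd⟩ := S2207.regular (G := MulAction.stabilizer G x₀) (X := Y) hprim hs
    (by rw [hcard]; norm_num)
  rw [hcard] at hd
  have h2 : 2 ∣ p ^ d := by rw [← hd]; norm_num
  have h5 : 5 ∣ p ^ d := by rw [← hd]; norm_num
  have e2 := (Nat.prime_dvd_prime_iff_eq Nat.prime_two hp).1 (Nat.prime_two.dvd_of_dvd_pow h2)
  have e5 := (Nat.prime_dvd_prime_iff_eq Nat.prime_five hp).1 (Nat.prime_five.dvd_of_dvd_pow h5)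
  omega

theorem noE_isM11 {K : Type*} [Group K] [Finite K] (hK : Cfsg.IsM11 K) {p : ℕ} [Fact p.Prime]
    (hp : 5 ≤ p) (hb : Blk p K) (hO : ThO p K) : NoE p K := by
  have hs := hK.1
  have hcard := hK.2
  have hpp : p.Prime := Fact.out
  by_cases hd : p ∣ 7920
  swap
  · intro x hx
    exfalso
    apply hd
    rw [← hcard, ← hx]
    exact orderOf_dvd_natCard x
  have hfac : p = 5 ∨ p = 11 := by
    have h1 : p ∈ Nat.primeFactors 7920 := Nat.mem_primeFactors.2 ⟨hpp, hd, by norm_num⟩
    have h2 : Nat.primeFactors 7920 = {2, 3, 5, 11} := by decide +kernel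
    rw [h2] at h1
    simp only [Finset.mem_insert, Finset.mem_singleton] at h1
    omega
  have hcyc : ∀ P : Sylow p K, IsCyclic (P : Subgroup K) := by
    apply cyclic_of_card
    rw [hcard]
    rcases hfac with rfl | rfl <;> norm_num
  have hna : ¬ IsMulCommutative K := by
    intro hc
    obtain ⟨x, hx⟩ := exists_prime_orderOf_dvd_card' (G := K) p (by rw [hcard]; exact hd)
    have hn : (zpowers x).Normal := ⟨fun y hy g => by
      rw [hc.is_comm.comm g y, mul_inv_cancel_right]; exact hy⟩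
    rcases hn.eq_bot_or_eq_top with h | h
    · rw [zpowers_eq_bot] at h
      rw [h, orderOf_one] at hx
      omega
    · have h1 := Nat.card_zpowers x
      rw [h, card_top, hcard, hx] at h1
      rcases hfac with rfl | rfl <;> omega
  rcases hfac with rfl | rfl
  · -- `p = 5`
    apply NoE.of_lw hcyc
    obtain ⟨X, _, _, _, h11, hS⟩ := SectRankFour.AutM11.exists_sharp4 hK
    have hne : Nonempty X := by rw [← Fintype.card_pos_iff, h11]; norm_num
    obtain ⟨x₀⟩ := hne
    set L : Subgroup K := MulAction.stabilizer K x₀ with hL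
    have hns : ¬ Group.IsSolvable L := stabilizer_not_solvable h11 hS x₀
    have hidx : L.index = 11 := by
      have h1 : MulAction.orbit K x₀ = Set.univ := by
        rw [Set.eq_univ_iff_forall]
        intro y
        have hex : ∀ s : Finset X, s.card < 11 → ∃ x, x ∉ s := by
          intro s hs
          by_contra hcon
          push Not at hcon
          have h1 : s = Finset.univ := Finset.eq_univ_of_forall hcon
          rw [h1, Finset.card_univ, h11] at hs
          omega
        obtain ⟨a, ha⟩ := hex {x₀, y} (lt_of_le_of_lt Finset.card_le_two (by norm_num))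
        obtain ⟨b, hb⟩ := hex {x₀, y, a} (lt_of_le_of_lt Finset.card_le_three (by norm_num))
        obtain ⟨c, hc⟩ := hex {x₀, y, a, b} (lt_of_le_of_lt Finset.card_le_four (by norm_num))
        simp only [Finset.mem_insert, Finset.mem_singleton, not_or] at ha hb hc
        obtain ⟨g, h0, -⟩ := hS.exists_map x₀ a b c y a b c
          (nodup4_iff.2 ⟨Ne.symm ha.1, Ne.symm hb.1, Ne.symm hc.1, Ne.symm hb.2.2, Ne.symm hc.2.2.1, Ne.symm hc.2.2.2⟩)
          (nodup4_iff.2 ⟨Ne.symm ha.2, Ne.symm hb.2.1, Ne.symm hc.2.1, Ne.symm hb.2.2, Ne.symm hc.2.2.1, Ne.symm hc.2.2.2⟩)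
        exact ⟨g, h0⟩
      rw [hL, MulAction.index_stabilizer, h1, Set.ncard_univ, Nat.card_eq_fintype_card, h11]
    have hLc : Nat.card L = 720 := by
      have h1 := L.card_mul_index
      rw [hidx, hcard] at h1
      omega
    refine ⟨L, ?_, by rw [hLc]; norm_num, ?_⟩
    · intro h
      rw [h, index_top] at hidx
      norm_num at hidx
    · intro h5
      apply hns
      have h1 : Nat.card (radIn L) = Nat.card (solvableRadical L) :=
        Subgroup.card_map_of_injective L.subtype_injective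
      rw [h1] at h5
      rw [Group.isSolvable_iff_subgroup_quotient (solvableRadical L)]
      refine ⟨rad_solvable L, ?_⟩
      have h2 := (solvableRadical L).card_mul_index
      rw [hLc] at h2
      obtain ⟨k, hk⟩ := h5
      rw [hk, show (720 : ℕ) = 5 * 144 by norm_num, mul_assoc] at h2
      have h3 : (solvableRadical L).index ∣ 2 ^ 4 * 3 ^ 2 :=
        ⟨k, by rw [show (2 ^ 4 * 3 ^ 2 : ℕ) = 144 by norm_num, ← Nat.eq_of_mul_eq_mul_left (by norm_num) h2, mul_comm]⟩
      obtain ⟨a, b, ha, hb', hab⟩ := (Nat.dvd_mul).1 h3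
      obtain ⟨a', -, rfl⟩ := (Nat.dvd_prime_pow Nat.prime_two).1 ha
      obtain ⟨b', -, rfl⟩ := (Nat.dvd_prime_pow Nat.prime_three).1 hb'
      refine S0144.result 2 3 a' b' Nat.prime_two Nat.prime_three ?_
      exact hab.symm
  · -- `p = 11`
    refine NoE.of_m0 hna hcyc fun x hx hR hY => m0_num hcyc hb hO hx hR hY fun t ht htp htd => Or.inl ?_
    intro i hi hti
    rw [hcard] at hti
    have h1 : t = 2 ∨ t = 5 := by
      have h1 : t ∈ Nat.primeFactors 10 := Nat.mem_primeFactors.2 ⟨ht, htd, by norm_num⟩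
      have h2 : Nat.primeFactors 10 = {2, 5} := by decide +kernel
      rw [h2] at h1
      simpa using h1
    have h2 : i < 13 := by
      by_contra hlt
      have h3 := Nat.le_of_dvd (by norm_num) hti
      have h4 : 2 ^ 13 ≤ t ^ i := (Nat.pow_le_pow_right (by norm_num) (by omega)).trans (Nat.pow_le_pow_left ht.two_le i)
      norm_num at h4
      omega
    rcases h1 with rfl | rfl
    · interval_cases i <;> revert hti <;> decide
    · interval_cases i <;> revert hti <;> decide

theorem noE_m11 {K : Type*} [Group K] [Finite K] [IsSimpleGroup K] (h : Cfsg.Spor.IsoM11 K) {p : ℕ} [Fact p.Prime]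
    (hp : 5 ≤ p) (hb : Cfsg.Agent.H301.SY.Blk p K) (hO : Cfsg.Agent.H301.SY.ThO p K) : Cfsg.Agent.H301.SY.NoE p K := by
  obtain ⟨e⟩ := h
  exact noE_isM11 ⟨inferInstance, by rw [Nat.card_congr e.toEquiv]; exact FooteOdd.SporMEleven.card⟩ hp hb hO

end Cfsg.Agent.H219.NoEM11
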