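import Cfsg.Agent.MFive.JTwo

/-!
# No subgroup of order 125 in `C_{Co1}(mk (e 0)) ∩ C_{Co1}(mk (e 1))` (helper219, S5232, M5-A2)
-/

set_option autoImplicit false

namespace Cfsg.Agent.H219.No125

open Cfsg Cfsg.Agent.SporadicA Cfsg.Agent.SporadicA.Co0Mono Cfsg.Agent.SporadicA.Co1Simple
open Cfsg.Agent.CoOneType.CoEval Cfsg.Agent.CoOneType.SignFacts
open Cfsg.Agent.KFacts.Co1.RHat Cfsg.Agent.KFacts.Co1.RIrr
open Cfsg.Agent.MFive Cfsg.Agent.MFive.JTwo
open Cfsg.Agent.MFive.Oct (cw wt_cw)
open Cfsg.Spor (Co1)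
open Subgroup

/-- a central involution outside a subgroup doubles the order -/
theorem two_mul_dvd {E : Type*} [Group E] [Finite E] (K : Subgroup E) {m : E} (hmm : m * m = 1) (hm1 : m ≠ 1)
    (hc : ∀ g, g * m = m * g) (hK : m ∉ K) : 2 * Nat.card K ∣ Nat.card E := by
  have hn : (zpowers m).Normal := by
    refine ⟨fun x hx g => ?_⟩
    obtain ⟨k, rfl⟩ := mem_zpowers_iff.1 hx
    have h1 : Commute g (m ^ k) := Commute.zpow_right (hc g) k
    rw [h1.eq, mul_inv_cancel_right]
    exact ⟨k, rfl⟩
  have h2 : Nat.card (zpowers m) = 2 := by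
    rw [Nat.card_zpowers]
    exact orderOf_eq_prime (by rw [pow_two, hmm]) hm1
  have hmem : ∀ x ∈ zpowers m, x = 1 ∨ x = m := by
    intro x hx
    obtain ⟨k, rfl⟩ := mem_zpowers_iff.1 hx
    rcases Int.even_or_odd' k with ⟨j, rfl | rfl⟩
    · left
      rw [zpow_mul, show m ^ (2 : ℤ) = 1 by rw [zpow_two, hmm], one_zpow]
    · right
      rw [zpow_add, zpow_mul, show m ^ (2 : ℤ) = 1 by rw [zpow_two, hmm], one_zpow, one_mul, zpow_one]
  let φ : K →* E ⧸ zpowers m := (QuotientGroup.mk' (zpowers m)).comp K.subtype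
  have hφ : Function.Injective φ := by
    rw [injective_iff_map_eq_one]
    intro k hk
    have h1 : (k : E) ∈ zpowers m := (QuotientGroup.eq_one_iff (k : E)).1 hk
    rcases hmem _ h1 with h | h
    · exact Subtype.ext h
    · exact absurd (h ▸ k.2) hK
  have h3 := card_eq_card_quotient_mul_card_subgroup (zpowers m)
  rw [h3, h2, mul_comm]
  exact Nat.mul_dvd_mul (card_dvd_of_injective φ hφ) (dvd_refl 2)

set_option maxHeartbeats 2000000 in
theorem no125 (R : Subgroup Co1)
    (h0 : ∀ y ∈ R, y * (QuotientGroup.mk (JData.e 0) : Co1) = (QuotientGroup.mk (JData.e 0) : Co1) * y)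
    (h1 : ∀ y ∈ R, y * (QuotientGroup.mk (JData.e 1) : Co1) = (QuotientGroup.mk (JData.e 1) : Co1) * y) :
    Nat.card R ≠ 125 := by
  intro hR
  rw [JData.e_zero] at h0
  rw [JData.e_one] at h1
  set ε : D := el (signCo0 cw) eps_comm with hε
  set E : Subgroup D := centralizer ({ε} : Set D) with hE
  set m : D := el (signCo0 allOne) (sign_allOne_comm (Oct.e 0)).symm with hm
  -- order divisible by 125
  have d125 : 125 ∣ Nat.card E := by
    let π : D →* Co1 := (QuotientGroup.mk' (center Co0)).comp (centralizer ({Oct.e 0} : Set Co0)).subtype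
    have hle : R ≤ E.map π := by
      intro y hy
      obtain ⟨g, rfl⟩ := QuotientGroup.mk_surjective y
      have a0 : (QuotientGroup.mk (g * Oct.e 0) : Co1) = QuotientGroup.mk (Oct.e 0 * g) := h0 _ hy
      have a1 : (QuotientGroup.mk (g * signCo0 cw) : Co1) = QuotientGroup.mk (signCo0 cw * g) := h1 _ hy
      have b0 : g * Oct.e 0 = Oct.e 0 * g := by
        rcases (CoOneType.ClosingFacts.mk_eq (g * Oct.e 0) (Oct.e 0 * g)).1 a0 with h2 | h2
        · exact h2
        · exfalso
          apply m_ne
          have h4 : g * Oct.e 0 * g⁻¹ = Oct.e 0 * signCo0 allOne := by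
            rw [h2, mul_assoc (Oct.e 0) g, sign_allOne_comm g]; group
          have h5 : (g * Oct.e 0 * g⁻¹) ^ 5 = 1 := by rw [conj_pow, JR.pow_five]; group
          have h6 : Commute (Oct.e 0) (signCo0 allOne) := sign_allOne_comm (Oct.e 0)
          rw [h4, h6.mul_pow, JR.pow_five, one_mul] at h5
          have h7 : signCo0 allOne ^ 5 = signCo0 allOne := by
            rw [show (5 : ℕ) = 2 * 2 + 1 from rfl, pow_succ, pow_mul, pow_two (signCo0 allOne), m_mul, one_pow,
              one_mul]
          rw [h7] at h5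
          exact h5
      have b1 : el g b0 * ε = ε * el g b0 := by
        rcases (CoOneType.ClosingFacts.mk_eq (g * signCo0 cw) (signCo0 cw * g)).1 a1 with h2 | h2
        · exact Subtype.ext h2
        · exfalso
          apply data.neg (el g b0)
          apply Subtype.ext
          change g * signCo0 cw = signCo0 allOne * (signCo0 cw * g)
          rw [h2, sign_allOne_comm]
      exact ⟨el g b0, mem_centralizer_singleton_iff.2 b1, rfl⟩
    rw [← hR]
    exact (card_dvd_of_le hle).trans (card_map_dvd _ _)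
  -- order divisible by 64
  have d64 : 64 ∣ Nat.card E := by
    have hRE : RR ≤ E := fun r hr => mem_centralizer_singleton_iff.2 (data.comm r hr)
    have hmE : m ∈ E := mem_centralizer_singleton_iff.2 (data.mc ε).symm
    have h2 := two_mul_dvd (E := E) (RR.subgroupOf E) (m := ⟨m, hmE⟩) (Subtype.ext data.mm)
      (fun h => data.m1 (congrArg Subtype.val h)) (fun g => Subtype.ext (data.mc g))
      (fun h => data.m_not (mem_subgroupOf.1 h))
    rw [Nat.card_congr (subgroupOfEquivOfLe hRE).toEquiv, card_RR] at h2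
    exact h2
  -- order divisible by 3
  have d3 : 3 ∣ Nat.card E := by
    have : Fact (Nat.Prime 3) := ⟨Nat.prime_three⟩
    have hf : (L 9 (by simp)) ∈ E := mem_centralizer_singleton_iff.2 elts.f3ε
    have ho : orderOf (⟨L 9 (by simp), hf⟩ : E) = 3 := by
      apply orderOf_eq_prime
      · apply Subtype.ext
        rw [pow_succ, pow_two]
        exact elts.hf3
      · intro h
        have h2 : L 9 (by simp) = (1 : D) := congrArg Subtype.val h
        have h3 := elts.h3
        rw [h2, one_mul, mul_one] at h3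
        have h4 := elts.h02
        rw [h3] at h4
        have h5 : (1 : D) * (L 5 (by simp) * L 5 (by simp)) = el (signCo0 (cw + allOne)) (omega_comm JR.mem_C0) * (L 5 (by simp) * L 5 (by simp)) := by
          rw [one_mul]; exact h4
        have h6 := mul_right_cancel h5
        exact JR.om_ne (congrArg Subtype.val h6).symm
    rw [← ho]
    exact _root_.orderOf_dvd_natCard _
  have d1 : 125 * 64 ∣ Nat.card E := Nat.Coprime.mul_dvd_of_dvd_of_dvd (by norm_num) d125 d64
  have d2 : 125 * 64 * 3 ∣ Nat.card E := Nat.Coprime.mul_dvd_of_dvd_of_dvd (by norm_num) d1 d3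
  have h2 := Nat.le_of_dvd Nat.card_pos d2
  have h3 := bound
  rw [← hε, ← hE] at h3
  omega

end Cfsg.Agent.H219.No125
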