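import Cfsg.Agent.H52.StrLink

/-!
# A generation criterion for `NoSP` (helper219)

`noSP_of_pair` : `M = ⟨a, b⟩` is simple, `a` commutes with the `p`-element `y`, `b` commutes with the `p`-element `z`, and
`w` is a `p`-element commuting with `y` and `z`. Then `M` has no strongly `p`-embedded subgroup.
-/

set_option autoImplicit false

namespace Cfsg.Agent.H219.NoSPPair

open Cfsg Subgroup Cfsg.Agent.H998.StrP Cfsg.Agent.H52.StrLink

/-- the abstract form -/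
theorem noSP_of_gen {K : Type*} [Group K] [Finite K] [IsSimpleGroup K] {p : ℕ} [hp : Fact p.Prime] {y : K}
    (hy : El ⊤ p y) {A : Set K} (hA : ∀ a ∈ A, ∃ z, Lk ⊤ p y z ∧ Commute a z) (hgen : closure A = ⊤) : NoSP p K := by
  have e : (⊤ : Subgroup K) ≃* K := topEquiv
  have hs : IsSimpleGroup ↥(⊤ : Subgroup K) := e.isSimpleGroup_congr.2 inferInstance
  refine NoSP.congr e.symm (noSP_of_link hy ?_)
  have h : closure A ≤ Stab ⊤ p y := by
    rw [closure_le]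
    intro a ha
    obtain ⟨z, h1, h2⟩ := hA a ha
    exact mem_of_commute h1 h2
  exact top_le_iff.1 (hgen.ge.trans h)

theorem el_mk {Γ : Type*} [Group Γ] {M : Subgroup Γ} {p : ℕ} {y : Γ} (hy : y ∈ M) (h1 : y ≠ 1) (hp : y ^ p = 1) :
    El (⊤ : Subgroup ↥M) p ⟨y, hy⟩ :=
  ⟨mem_top _, fun h => h1 (congrArg Subtype.val h), 1, Subtype.ext (by rw [pow_one]; exact hp)⟩

/-- two generators, a path of length 2 -/
theorem noSP_of_pair {Γ : Type*} [Group Γ] {M : Subgroup Γ} [Finite M] [IsSimpleGroup M] {p : ℕ}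
    [hp : Fact p.Prime] {a b y w z : Γ} (ha : a ∈ M) (hb : b ∈ M) (hy : y ∈ M) (hw : w ∈ M) (hz : z ∈ M)
    (y1 : y ≠ 1) (yp : y ^ p = 1) (w1 : w ≠ 1) (wp : w ^ p = 1) (z1 : z ≠ 1) (zp : z ^ p = 1)
    (hay : a * y = y * a) (hyw : y * w = w * y) (hwz : w * z = z * w) (hbz : b * z = z * b)
    (hgen : closure ({a, b} : Set Γ) = M) : NoSP p M := by
  have h1 : Lk (⊤ : Subgroup ↥M) p ⟨y, hy⟩ ⟨w, hw⟩ :=
    Lk.single (el_mk hy y1 yp) (el_mk hw w1 wp) (Subtype.ext hyw)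
  have h2 : Lk (⊤ : Subgroup ↥M) p ⟨w, hw⟩ ⟨z, hz⟩ :=
    Lk.single (el_mk hw w1 wp) (el_mk hz z1 zp) (Subtype.ext hwz)
  refine noSP_of_gen (el_mk hy y1 yp) (A := {⟨a, ha⟩, ⟨b, hb⟩}) ?_ ?_
  · rintro x (rfl | rfl)
    · exact ⟨_, Lk.refl _, Subtype.ext hay⟩
    · exact ⟨_, h1.trans h2, Subtype.ext hbz⟩
  · apply Subgroup.map_injective M.subtype_injective
    rw [MonoidHom.map_closure, Set.image_pair]
    simp only [Subgroup.coe_subtype]
    rw [hgen, ← MonoidHom.range_eq_map, Subgroup.range_subtype]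

end Cfsg.Agent.H219.NoSPPair
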