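import Cfsg.Prelude.Def_Spor_Mathieu
import Cfsg.Agent.H219.NoSPPair
import Cfsg.Agent.H994.TwoGen.Chain
import Cfsg.Agent.J4.M24Hom
import Cfsg.Agent.SporadicA.MathieuRecog

/-!
# `M₂₂` has no strongly 3-embedded subgroup (helper219)
-/

set_option autoImplicit false

namespace Cfsg.Agent.H219.NoSPM22

open Cfsg Cfsg.Agent.H994.TwoGen Cfsg.Agent.H994.TwoGen.Chain Cfsg.Agent.H998.StrP
open Cfsg.Agent.J4.M24Hom (fn)
open scoped Pointwise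

/-- table of `A` -/
def ta : List ℕ := [0, 22, 10, 8, 11, 4, 2, 18, 15, 21, 6, 5, 14, 17, 12, 9, 7, 20, 13, 3, 16, 19, 1, 23]
/-- table of `A⁻¹` -/
def tai : List ℕ := [0, 22, 6, 19, 5, 11, 10, 16, 3, 15, 2, 4, 14, 18, 12, 8, 20, 13, 7, 21, 17, 9, 1, 23]

/-- an element -/
def A : Equiv.Perm GolayPt where
  toFun := fn ta
  invFun := fn tai
  left_inv := by decide +kernel
  right_inv := by decide +kernel

theorem A_mem24 : A ∈ M24 :=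
  SporadicA.GolayWalk.mem_M24_of_table A ta rfl (by decide +kernel) (by decide +kernel)

theorem A_mem : A ∈ Spor.M22 :=
  (SporadicA.MathieuRecog.mem_M22_iff _).2 ⟨A_mem24, by decide +kernel, by decide +kernel⟩

/-- table of `B` -/
def tb : List ℕ := [0, 21, 9, 20, 7, 19, 13, 1, 6, 8, 4, 10, 22, 15, 12, 2, 17, 18, 16, 5, 3, 11, 14, 23]
/-- table of `B⁻¹` -/
def tbi : List ℕ := [0, 7, 15, 20, 10, 19, 8, 4, 9, 2, 11, 21, 14, 6, 22, 13, 18, 16, 17, 5, 3, 1, 12, 23]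

/-- an element -/
def B : Equiv.Perm GolayPt where
  toFun := fn tb
  invFun := fn tbi
  left_inv := by decide +kernel
  right_inv := by decide +kernel

theorem B_mem24 : B ∈ M24 :=
  SporadicA.GolayWalk.mem_M24_of_table B tb rfl (by decide +kernel) (by decide +kernel)

theorem B_mem : B ∈ Spor.M22 :=
  (SporadicA.MathieuRecog.mem_M22_iff _).2 ⟨B_mem24, by decide +kernel, by decide +kernel⟩

/-- table of `W` -/
def tw : List ℕ := [0, 1, 6, 20, 4, 5, 10, 8, 15, 21, 2, 11, 14, 9, 22, 7, 17, 18, 16, 3, 19, 13, 12, 23]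
/-- table of `W⁻¹` -/
def twi : List ℕ := [0, 1, 10, 19, 4, 5, 2, 15, 7, 13, 6, 11, 22, 21, 12, 8, 18, 16, 17, 20, 3, 9, 14, 23]

/-- an element -/
def W : Equiv.Perm GolayPt where
  toFun := fn tw
  invFun := fn twi
  left_inv := by decide +kernel
  right_inv := by decide +kernel

theorem W_mem24 : W ∈ M24 :=
  SporadicA.GolayWalk.mem_M24_of_table W tw rfl (by decide +kernel) (by decide +kernel)

theorem W_mem : W ∈ Spor.M22 :=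
  (SporadicA.MathieuRecog.mem_M22_iff _).2 ⟨W_mem24, by decide +kernel, by decide +kernel⟩


/-- the stabiliser chain -/
def chain : List (GolayPt × List (List ℕ)) :=
  [(some 1, [[], [3, 2, 1], [0, 0, 1], [3, 3], [1, 0, 1], [0, 1, 1, 1], [3], [1, 2, 1], [2, 1], [1, 1, 1], [1, 1], [3,
  0], [0, 0, 3], [1, 0], [2, 2, 1], [2, 3], [3, 0, 3], [0, 3], [0, 1], [2, 2, 3], [1], [0]]),
      (some 2, [[], [0, 1, 2, 1, 0], [0, 3, 3, 2, 1, 0], [1, 1, 0, 1, 0, 1], [0, 0], [2, 1, 0, 1, 2], [3, 2, 1, 0, 1,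
  1], [2, 3, 2, 2, 1, 0], [2, 2], [2, 3, 3, 2, 1, 0], [1, 1, 0, 3, 0, 1], [0, 1, 0, 1, 2], [3, 3, 2, 3, 0, 1], [0, 1,
  2, 3, 3, 0], [0, 3, 2, 3, 2], [0, 3, 0, 3, 2], [2, 3, 0, 3, 2], [0, 3, 2, 2, 1, 0], [2, 1, 2, 1, 2], [2, 1, 2, 1,
  0], [0, 1, 1, 1, 0]]),
      (some 3, [[], [1, 1, 0, 1, 0, 1, 0, 0], [0, 0, 0, 1, 1, 1, 2], [2, 1, 0, 1, 1, 0, 1, 0], [2, 3, 2, 1, 2, 1, 0,
  3, 0], [0, 1, 1, 0, 1, 1, 2], [1, 0, 0, 3, 0, 3, 2, 3, 3], [0, 3, 2, 1, 1, 1, 0, 1, 2], [2, 1, 1, 0, 0, 0, 3, 2],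
  [2, 3, 3, 0, 1, 1, 0, 1, 2], [3, 3, 2, 2, 3, 3, 0, 0], [3, 3, 0, 3, 3, 0, 1, 2, 1, 0], [2, 1, 0, 1, 0], [2, 1, 2, 3,
  0, 3, 3, 0], [0, 1, 1, 1, 0, 0, 0], [2, 3, 2, 3, 0], [2, 3, 2, 2, 1, 1, 2, 1, 0], [0, 3, 2, 1, 2, 1, 2, 3, 0], [0,
  1, 0, 0, 0, 3, 3, 0], [2, 1, 1, 2, 1, 0, 3, 0]]),
      (some 4, [[], [1, 2, 3, 2, 3], [0, 3, 3, 0, 1, 2, 2, 3, 0, 3, 0], [0, 3, 0, 1, 2, 1, 0, 1, 0, 3, 0], [2, 1, 2,
  3, 2, 3, 0, 3, 2, 1, 2], [1, 0, 0, 3, 0, 3, 0, 1, 1, 2, 2], [2, 1, 0, 1, 0, 0, 3, 3, 2, 3, 3, 2], [1, 0, 3, 3, 2, 1,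
  0, 3, 2, 1, 1], [2, 3, 3, 2, 1, 1, 1, 0, 1, 1, 0], [0, 0, 0, 3, 0, 3, 3, 0, 1, 1, 2], [2, 1, 2, 3, 2, 1, 1, 0, 3, 2,
  1, 0], [1, 0, 1, 0, 3], [2, 3, 3, 0, 1, 1, 1, 2, 1, 1, 0], [0, 1, 2, 1, 1, 1, 2, 1, 1, 2], [2, 1, 2, 3, 2, 2, 1, 0,
  3, 0, 0, 0], [2, 1, 0, 1, 2, 2, 1, 2, 1, 0, 0, 0]]),
      (some 5, [[], [0, 1, 0, 3, 2, 1, 1, 0, 3, 3, 0, 0, 0], [2, 3, 3, 0, 3, 0, 1, 1, 1, 0, 1, 1, 2]])]

theorem chain_ok : ok A B [] chain = true := by decide +kernel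

theorem size_chain : size chain = 443520 := by decide +kernel

theorem closure_eq : Subgroup.closure ({A, B} : Set (Equiv.Perm GolayPt)) = Spor.M22 :=
  Chain.closure_eq A_mem B_mem chain chain_ok (by rw [size_chain, SporadicA.MathieuRecog.card_M22])

theorem simple : IsSimpleGroup Spor.M22 := SporadicA.MathieuRecog.simple_M22

/-- **`M22` has no strongly 3-embedded subgroup.** -/
theorem noSP_model : NoSP 3 Spor.M22 := by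
  have hs : IsSimpleGroup Spor.M22 := simple
  have hp : Fact (Nat.Prime 3) := ⟨Nat.prime_three⟩
  refine NoSPPair.noSP_of_pair (y := A ^ 2) (w := W) (z := B ^ 2) A_mem B_mem (Subgroup.pow_mem _ A_mem 2)
    W_mem (Subgroup.pow_mem _ B_mem 2) ?_ ?_ ?_ ?_ ?_ ?_ ?_ ?_ ?_ ?_ closure_eq <;>
    decide +kernel

theorem nosp {G : Type*} [Group G] [Finite G] (h : Spor.IsoM22 G) : NoSP 3 G := by
  obtain ⟨e⟩ := h
  exact NoSP.congr e noSP_model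

end Cfsg.Agent.H219.NoSPM22
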