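import Cfsg.Agent.H219.NoSPM22
import Cfsg.Agent.H998.StrP.Arith

/-!
# `M₂₃` has no strongly 3-embedded subgroup (helper219)

`M₂₂ ≤ M₂₃` has index 23.
-/

set_option autoImplicit false

namespace Cfsg.Agent.H219.NoSPM23

open Cfsg Cfsg.Agent.H998.StrP

theorem noSP_model : NoSP 3 Spor.M23 := by
  have hp : Fact (Nat.Prime 3) := ⟨Nat.prime_three⟩
  intro H hH
  have hle : Spor.M22 ≤ Spor.M23 := inf_le_left
  have hfin : Finite Spor.M22 := inferInstance
  have h1 : NoSP 3 (Spor.M22.subgroupOf Spor.M23) :=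
    NoSP.congr (Subgroup.subgroupOfEquivOfLe hle) NoSPM22.noSP_model
  have hc : Nat.card (Spor.M22.subgroupOf Spor.M23) = 443520 := by
    rw [Nat.card_congr (Subgroup.subgroupOfEquivOfLe hle).toEquiv, SporadicA.MathieuRecog.card_M22]
  have h2 := card_dvd_of_noSP hH (by rw [hc]; norm_num) h1
  rw [hc] at h2
  refine contra hH (D := 443520) (a := 2) (b := 0) h2 [(23, 1)] (by simp; norm_num) (by norm_num) ?_ ?_ ?_
  · rw [SporadicA.MathieuRecog.card_M23]; norm_num
  · rw [SporadicA.MathieuRecog.card_M23]; norm_num [val]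
  · decide +kernel

/-- **`M23` has no strongly 3-embedded subgroup.** -/
theorem nosp {G : Type*} [Group G] [Finite G] (h : Spor.IsoM23 G) : NoSP 3 G := by
  obtain ⟨e⟩ := h
  exact NoSP.congr e noSP_model

end Cfsg.Agent.H219.NoSPM23
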