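import Cfsg.Agent.H917.OmTools
import Cfsg.Agent.LieClassical.FieldTransfer

/-!
# `L₂(17)` in `Ω₈⁻(q)`, characteristic different from 17 (helper219, row S5827)
-/

set_option autoImplicit false
set_option linter.unusedSectionVars false

namespace Cfsg.Agent.H219.OmL217

open Cfsg Cfsg.Geo Module
open Cfsg.Agent.H637.JW Cfsg.Agent.H917 Cfsg.Agent.H917.Om

universe u v

instance fact17 : Fact (Nat.Prime 17) := ⟨by norm_num⟩

variable {F : Type u} [Field F] {T : Type v} [Group T]

/-- an eigenvector with eigenvalue of order 17 -/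
theorem exists_eigen (h : OC F T) (h17 : (17 : F) ≠ 0) {x : T} (hx : x ^ 17 = 1) (hx1 : x ≠ 1) :
    ∃ (w : Fin 8 → AlgebraicClosure F) (ω : AlgebraicClosure F), w ≠ 0 ∧ h.σ x w = ω • w ∧
      IsPrimitiveRoot ω 17 := by
  have h17' : ((17 : ℕ) : AlgebraicClosure F) ≠ 0 := by
    intro h0
    apply h17
    have h1 : algebraMap F (AlgebraicClosure F) ((17 : ℕ) : F) = 0 := by rw [map_natCast]; exact h0
    have h2 := (map_eq_zero _).1 h1
    exact_mod_cast h2
  obtain ⟨ζ, hζ⟩ := exists_root (K := AlgebraicClosure F) (N := 17) h17'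
  have htop := iSup_W (V := Fin 8 → AlgebraicClosure F) h17' hζ (f := fun _ : Unit => h.σ x) (fun _ _ => rfl)
    (fun _ => by rw [← map_pow, hx, map_one])
  have hex : ∃ c : Unit → ZMod 17, c () ≠ 0 ∧ W 17 ζ (fun _ : Unit => h.σ x) c ≠ ⊥ := by
    by_contra hcon
    push Not at hcon
    apply hx1
    apply h.σ_injective
    rw [map_one]
    have h1 : (⊤ : Submodule (AlgebraicClosure F) (Fin 8 → AlgebraicClosure F)) ≤ Fix h.σ x := by
      rw [← htop]
      refine iSup_le fun c => ?_
      by_cases hc : c () = 0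
      · intro v hv
        rw [mem_W] at hv
        rw [mem_Fix]
        have := hv ()
        rw [hc, ZMod.val_zero, pow_zero, one_smul] at this
        exact this
      · rw [hcon c hc]; exact bot_le
    apply LinearMap.ext
    intro v
    exact mem_Fix.1 (h1 (Submodule.mem_top (x := v)))
  obtain ⟨c, hc, hW⟩ := hex
  obtain ⟨w, hw, hw0⟩ := Submodule.exists_mem_ne_zero_of_ne_bot hW
  refine ⟨w, ζ ^ (c ()).val, hw0, (mem_W.1 hw) (), hζ.pow_of_coprime _ ?_⟩
  rw [Nat.coprime_comm, Nat.Prime.coprime_iff_not_dvd (by norm_num)]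
  intro hd
  apply hc
  rw [← ZMod.natCast_zmod_val (c ()), (ZMod.natCast_eq_zero_iff _ _).2 hd]

theorem no_rel (h : OC F T) (h17 : (17 : F) ≠ 0) {x t : T} (hx : x ^ 17 = 1) (hx1 : x ≠ 1) (ht : t ^ 8 = 1)
    (hxt : t⁻¹ * x * t = x ^ 2) : False := by
  obtain ⟨w, ω, hw, hxw, hω⟩ := exists_eigen h h17 hx hx1
  -- the basis
  have hb : ∀ k : ℕ, h.σ x (h.σ (t ^ k) w) = ω ^ (2 ^ k) • h.σ (t ^ k) w := by
    intro k
    induction k with
    | zero => simpa using hxw
    | succ k ih =>
      have h1 : x * t ^ (k + 1) = t * (x ^ 2 * t ^ k) := by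
        rw [← hxt, pow_succ']; group
      rw [← mul_apply', h1, mul_apply', mul_apply', pow_two, mul_apply', ih, map_smul, ih, map_smul, map_smul,
        smul_smul, ← pow_add, ← mul_apply', ← pow_succ']
      congr 2
      rw [pow_succ]; ring
  have hne : ∀ k : ℕ, h.σ (t ^ k) w ≠ 0 := by
    intro k h0
    apply hw
    apply Cfsg.Agent.H637.JW.injective (σ := h.σ) (t ^ k)
    rw [h0, map_zero]
  let b : Fin 8 → Fin 8 → AlgebraicClosure F := fun k => h.σ (t ^ (k : ℕ)) w
  have hinj : Function.Injective (fun k : Fin 8 => ω ^ (2 ^ (k : ℕ))) := by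
    intro k l hkl
    have h1 : (2 ^ (k : ℕ)) % 17 = (2 ^ (l : ℕ)) % 17 := by
      have h2 : ω ^ ((2 ^ (k : ℕ)) % 17) = ω ^ ((2 ^ (l : ℕ)) % 17) := by
        rw [pow_mod_of_pow_eq_one hω.pow_eq_one, pow_mod_of_pow_eq_one hω.pow_eq_one]; exact hkl
      exact hω.pow_inj (Nat.mod_lt _ (by norm_num)) (Nat.mod_lt _ (by norm_num)) h2
    have key : ∀ k l : Fin 8, (2 ^ (k : ℕ)) % 17 = (2 ^ (l : ℕ)) % 17 → k = l := by decide
    exact key k l h1
  have hli : LinearIndependent (AlgebraicClosure F) b :=
    Module.End.eigenvectors_linearIndependent' (h.σ x) (fun k : Fin 8 => ω ^ (2 ^ (k : ℕ))) hinj b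
      (fun k => ⟨Module.End.mem_eigenspace_iff.2 (hb k), hne k⟩)
  let B := basisOfLinearIndependentOfCardEqFinrank hli (by rw [Module.finrank_fin_fun, Fintype.card_fin])
  have hB : ∀ k, B k = b k := fun k => by
    rw [coe_basisOfLinearIndependentOfCardEqFinrank]
  -- the action of `t`
  have htb : ∀ k : Fin 8, h.σ t (B k) = B (k + 1) := by
    intro k
    rw [hB, hB]
    change h.σ t (h.σ (t ^ (k : ℕ)) w) = h.σ (t ^ ((k + 1 : Fin 8) : ℕ)) w
    rw [← mul_apply', ← pow_succ']
    congr 2
    fin_cases k <;> first | rfl | exact ht.trans (pow_zero t).symm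
  -- the fixed space is one-dimensional
  have hfix : Fix h.σ t = Submodule.span (AlgebraicClosure F) {∑ k, B k} := by
    apply le_antisymm
    · intro v hv
      rw [mem_Fix] at hv
      have h1 : ∀ k, B.repr v (k + 1) = B.repr v k := by
        intro k
        have h2 : h.σ t v = ∑ k, B.repr v k • B (k + 1) := by
          conv_lhs => rw [← B.sum_repr v]
          rw [map_sum]
          refine Finset.sum_congr rfl fun k _ => ?_
          rw [map_smul, htb]
        have h3 : ∑ k, B.repr v k • B (k + 1) = ∑ k, B.repr v (k - 1) • B k := by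
          rw [← Equiv.sum_comp (Equiv.addRight (1 : Fin 8)) (fun k => B.repr v (k - 1) • B k)]
          refine Finset.sum_congr rfl fun k _ => ?_
          rw [Equiv.coe_addRight, add_sub_cancel_right]
        rw [hv, h3] at h2
        have h4 := congrArg (fun u => B.repr u (k + 1)) h2
        beta_reduce at h4
        rw [B.repr_sum_self, add_sub_cancel_right] at h4
        exact h4
      have h2 : ∀ k : Fin 8, B.repr v k = B.repr v 0 := by
        have e1 := h1 0
        have e2 := h1 1
        have e3 := h1 2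
        have e4 := h1 3
        have e5 := h1 4
        have e6 := h1 5
        have e7 := h1 6
        intro k
        fin_cases k
        · rfl
        · exact e1
        · exact e2.trans e1
        · exact e3.trans (e2.trans e1)
        · exact e4.trans (e3.trans (e2.trans e1))
        · exact e5.trans (e4.trans (e3.trans (e2.trans e1)))
        · exact e6.trans (e5.trans (e4.trans (e3.trans (e2.trans e1))))
        · exact e7.trans (e6.trans (e5.trans (e4.trans (e3.trans (e2.trans e1)))))
      rw [Submodule.mem_span_singleton]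
      refine ⟨B.repr v 0, ?_⟩
      conv_rhs => rw [← B.sum_repr v]
      rw [Finset.smul_sum]
      exact Finset.sum_congr rfl fun k _ => by rw [h2 k]
    · rw [Submodule.span_singleton_le_iff_mem, mem_Fix, map_sum]
      rw [Finset.sum_congr rfl fun k _ => htb k]
      exact Equiv.sum_comp (Equiv.addRight (1 : Fin 8)) (fun k => B k)
  have hs : ∑ k, B k ≠ 0 := by
    intro h0
    have h1 := congrArg (fun u => B.repr u 0) h0
    beta_reduce at h1
    have h2 : ∑ k, B k = ∑ k, (fun _ : Fin 8 => (1 : AlgebraicClosure F)) k • B k :=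
      Finset.sum_congr rfl fun k _ => by rw [one_smul]
    rw [h2, B.repr_sum_self, LinearEquiv.map_zero] at h1
    exact one_ne_zero h1
  have h1 := h.even_fix t
  rw [hfix, finrank_span_singleton hs] at h1
  exact absurd h1 (by decide)

open Matrix in
/-- **`L₂(17)`, `p ≠ 17`** -/
theorem no_l217 {F : Type u} [Field F] [Fintype F] (h17 : (17 : F) ≠ 0) {K : Type v} [Field K] [Fintype K]
    (hK : Fintype.card K = 17) (h : Om.OC F (Matrix.ProjectiveSpecialLinearGroup (Fin 2) K)) : False := by
  let e := LieClassical.FieldTransfer.pslCongr (ι := Fin 2)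
    (ZMod.ringEquivOfPrime K (show Nat.Prime 17 by norm_num) hK)
  let X : SpecialLinearGroup (Fin 2) (ZMod 17) := ⟨!![1, 1; 0, 1], by decide⟩
  let Y : SpecialLinearGroup (Fin 2) (ZMod 17) := ⟨!![3, 0; 0, 6], by decide⟩
  let Z : SpecialLinearGroup (Fin 2) (ZMod 17) := ⟨!![1, 0; 1, 1], by decide⟩
  have hX : X ^ 17 = 1 := Subtype.ext (by decide +kernel)
  have hXZ : Z * X ≠ X * Z := fun h0 =>
    absurd (congrArg Subtype.val h0) (by decide +kernel)
  have hXY : X * Y = Y * X ^ 2 := Subtype.ext (by decide +kernel)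
  have hY : Y ^ 8 = -1 := Subtype.ext (by decide +kernel)
  have hrel : Y⁻¹ * X * Y = X ^ 2 := by rw [mul_assoc, hXY, inv_mul_cancel_left]
  let π := QuotientGroup.mk' (Subgroup.center (SpecialLinearGroup (Fin 2) (ZMod 17)))
  refine no_rel (h.congr e) h17 (x := π X) (t := π Y) ?_ ?_ ?_ ?_
  · rw [← map_pow, hX, map_one]
  · intro h0
    have h1 : X ∈ Subgroup.center (SpecialLinearGroup (Fin 2) (ZMod 17)) := (QuotientGroup.eq_one_iff X).1 h0
    exact hXZ (Subgroup.mem_center_iff.1 h1 Z)
  · rw [← map_pow, hY]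
    refine (QuotientGroup.eq_one_iff _).2 (Subgroup.mem_center_iff.2 fun g => ?_)
    rw [mul_neg, neg_mul, mul_one, one_mul]
  · rw [← map_inv, ← map_mul, ← map_mul, ← map_pow, hrel]

end Cfsg.Agent.H219.OmL217
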