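import Cfsg.Agent.H219.FConf

/-!
Reduction steps for the relative fusion theorem.
-/

set_option autoImplicit false

namespace Cfsg.Agent.H219.Red

open Subgroup Cfsg
open Cfsg.Agent.PLocal
open Cfsg.Agent.Lib.GoldschmidtFusion
open Cfsg.Agent.Walter.GlaubermanFusion
open Cfsg.Agent.H219.Conf

/-- Hypotheses of the relative theorem. -/
structure Hyp {G : Type*} [Group G] (p : ℕ) (S Z : Subgroup G) : Prop where
  pS : IsPGroup p S
  syl : ¬ p ∣ S.index
  zj : Z ≤ centerThompsonAOf S
  nn : normalizer (centerThompsonAOf S : Set G) ≤ normalizer (Z : Set G)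

/-- `M` controls the fusion of subgroups of `S`. -/
def Ctl {G : Type*} [Group G] (S M : Subgroup G) : Prop :=
  ∀ A : Subgroup G, A ≤ S → ∀ g, A.map (MulAut.conj g).toMonoidHom ≤ S → Good M A g

/-- The relative theorem for the group `G`. -/
def RT (p : ℕ) (lam : ZMod p) (G : Type*) [Group G] : Prop :=
  ∀ S Z : Subgroup G, Hyp p S Z → Ctl S (normalizer (Z : Set G)) ∨
    FConf p lam S (normalizer (Z : Set G)) Z

section Basic

variable {G : Type*} [Group G] {p : ℕ} {lam : ZMod p} {S Z : Subgroup G}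

theorem Hyp.le (h : Hyp p S Z) : Z ≤ S := h.zj.trans (ThompsonJA.centerThompsonAOf_le S)

theorem Hyp.le_norm (h : Hyp p S Z) : S ≤ normalizer (Z : Set G) :=
  (le_normalizer.trans (ThompsonJA.normalizer_le_normalizer_centerThompsonAOf S)).trans h.nn

theorem mem_normalizer_map_subtype {K : Subgroup G} {A : Subgroup K} {y : K} :
    (y : G) ∈ normalizer ((A.map K.subtype : Subgroup G) : Set G) ↔ y ∈ normalizer (A : Set K) := by
  rw [mem_normalizer_iff_map_conj, mem_normalizer_iff_map_conj, ← map_subtype_conj]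
  exact (Subgroup.map_injective K.subtype_injective).eq_iff

theorem relIndex_dvd_of_index {S K : Subgroup G} (hSK : S ≤ K) (h : ¬ p ∣ S.index) :
    ¬ p ∣ S.relIndex K := fun hd => h (hd.trans (relIndex_dvd_index_of_le hSK))

/-- The relative theorem of a subgroup, read in the group. -/
theorem RT.apply_in {K : Subgroup G} (hK : RT p lam K) {U F : Subgroup G} (hUK : U ≤ K)
    (hU : IsPGroup p U) (hi : ¬ p ∣ U.relIndex K) (hF : F ≤ centerThompsonAOf U)
    (hN : K ⊓ normalizer (centerThompsonAOf U : Set G) ≤ normalizer (F : Set G)) :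
    (∀ A ≤ U, ∀ m ∈ K, A.map (MulAut.conj m).toMonoidHom ≤ U →
      Good (K ⊓ normalizer (F : Set G)) A m) ∨
    FConf p lam U (K ⊓ normalizer (F : Set G)) F := by
  have hFK : F ≤ K := hF.trans ((ThompsonJA.centerThompsonAOf_le U).trans hUK)
  have hUm : (U.subgroupOf K).map K.subtype = U := by
    rw [subgroupOf_map_subtype, inf_eq_left.2 hUK]
  have hFm : (F.subgroupOf K).map K.subtype = F := by
    rw [subgroupOf_map_subtype, inf_eq_left.2 hFK]
  have hZm : (centerThompsonAOf (U.subgroupOf K)).map K.subtype = centerThompsonAOf U := by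
    rw [ThompsonJA.map_centerThompsonAOf K.subtype K.subtype_injective, hUm]
  have hyp : Hyp p (U.subgroupOf K) (F.subgroupOf K) := by
    refine ⟨hU.comap_of_injective K.subtype K.subtype_injective, hi, ?_, ?_⟩
    · rw [← map_le_map_iff_of_injective K.subtype_injective, hFm, hZm]
      exact hF
    · intro y hy
      rw [← mem_normalizer_map_subtype, hZm] at hy
      rw [← mem_normalizer_map_subtype, hFm]
      exact hN ⟨y.2, hy⟩
  have hle : (normalizer ((F.subgroupOf K : Subgroup K) : Set K)).map K.subtype ≤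
      K ⊓ normalizer (F : Set G) := by
    rintro _ ⟨y, hy, rfl⟩
    refine ⟨y.2, ?_⟩
    have hy' : y ∈ normalizer ((F.subgroupOf K : Subgroup K) : Set K) := hy
    rw [← mem_normalizer_map_subtype, hFm] at hy'
    exact hy'
  rcases hK _ _ hyp with h | h
  · left
    intro A hA m hm hmA
    have hAm : (A.subgroupOf K).map K.subtype = A := by
      rw [subgroupOf_map_subtype, inf_eq_left.2 (hA.trans hUK)]
    obtain ⟨n, hn, c, hc, hnc⟩ := h (A.subgroupOf K) (comap_mono hA) ⟨m, hm⟩ (by
      rw [← map_le_map_iff_of_injective K.subtype_injective, map_subtype_conj, hAm, hUm]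
      exact hmA)
    refine ⟨n, hle ⟨n, hn, rfl⟩, c, ?_, congrArg Subtype.val hnc⟩
    rw [mem_centralizer_iff]
    intro a ha
    exact congrArg Subtype.val ((mem_centralizer_iff.1 hc) (⟨a, hUK (hA ha)⟩ : K) ha)
  · right
    have h1 := h.of_subgroup
    rw [hUm, hFm] at h1
    exact h1.mono le_rfl hle le_rfl

/-- Proper subgroups containing `S`. -/
theorem good_of_proper (IH : ∀ K : Subgroup G, K ≠ ⊤ → RT p lam K) (h : Hyp p S Z)
    (hF : ¬ FConf p lam S (normalizer (Z : Set G)) Z) {K : Subgroup G} (hK : K ≠ ⊤) (hSK : S ≤ K)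
    {A : Subgroup G} (hA : A ≤ S) {m : G} (hm : m ∈ K) (hmA : A.map (MulAut.conj m).toMonoidHom ≤ S) :
    Good (normalizer (Z : Set G)) A m := by
  rcases (IH K hK).apply_in hSK h.pS (relIndex_dvd_of_index hSK h.syl) h.zj
    (inf_le_right.trans h.nn) with h1 | h1
  · exact (h1 A hA m hm hmA).mono_left inf_le_right
  · exact absurd (h1.mono le_rfl inf_le_right le_rfl) hF

theorem good_of_good (IH : ∀ K : Subgroup G, K ≠ ⊤ → RT p lam K) (h : Hyp p S Z)
    (hF : ¬ FConf p lam S (normalizer (Z : Set G)) Z) {K : Subgroup G} (hK : K ≠ ⊤) (hSK : S ≤ K)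
    {A : Subgroup G} (hA : A ≤ S) {g : G} (hg : A.map (MulAut.conj g).toMonoidHom ≤ S)
    (hgood : Good K A g) : Good (normalizer (Z : Set G)) A g := by
  obtain ⟨n, hn, c, hc, rfl⟩ := hgood
  have hAc : A.map (MulAut.conj c).toMonoidHom = A := map_conj_of_mem_centralizer hc
  have hAn : A.map (MulAut.conj n).toMonoidHom ≤ S := by
    rw [← map_conj_map_conj, hAc] at hg
    exact hg
  refine (Good.of_cent hc).mul ?_
  rw [hAc]
  exact good_of_proper IH h hF hK hSK hA hn hAn

theorem ctl_of_top (h : normalizer (Z : Set G) = ⊤) : Ctl S (normalizer (Z : Set G)) := by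
  intro A _ g _
  exact Good.of_mem (by rw [h]; trivial)

end Basic

section Steps

variable {G : Type*} [Group G] [Finite G] {p : ℕ} [hpf : Fact p.Prime] {lam : ZMod p}
  {S Z : Subgroup G}

/-- Passage to the quotient by a normal subgroup of order prime to `p`. -/
theorem step_zero {Gb : Type*} [Group Gb] {φ : G →* Gb} (hφ : Function.Surjective φ)
    (hk : (Nat.card φ.ker).Coprime p) (hq : RT p lam Gb) (h : Hyp p S Z) :
    Ctl S (normalizer (Z : Set G)) ∨ FConf p lam S (normalizer (Z : Set G)) Z := by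
  have hfinb : Finite Gb := Finite.of_surjective φ hφ
  have hSK : S ⊓ φ.ker = ⊥ := PConstrained.inf_eq_bot_of_isPGroup_of_coprime h.pS hk
  have hZJ := Walter.ZJFusion.map_ZJ_of_disjoint φ hSK
  have hZp : IsPGroup p Z := h.pS.to_le h.le
  have hZJp : IsPGroup p (centerThompsonAOf S) := h.pS.to_le (ThompsonJA.centerThompsonAOf_le S)
  have hyp : Hyp p (S.map φ) (Z.map φ) := by
    refine ⟨h.pS.map φ, ?_, ?_, ?_⟩
    · intro hd
      exact h.syl (hd.trans (S.index_map_dvd hφ))
    · rw [← hZJ]
      exact map_mono h.zj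
    · rw [← hZJ, ← PConstrained.map_normalizer_eq φ hφ hk hZJp,
        ← PConstrained.map_normalizer_eq φ hφ hk hZp]
      exact map_mono h.nn
  rcases hq _ _ hyp with h1 | h1
  · left
    intro A hA g hg
    have hAp : IsPGroup p A := h.pS.to_le hA
    have hmapc : ∀ (x : G) (X : Subgroup G), (X.map φ).map (MulAut.conj (φ x)).toMonoidHom =
        (X.map (MulAut.conj x).toMonoidHom).map φ := by
      intro x X
      rw [Subgroup.map_map, Subgroup.map_map]
      congr 1
      ext y
      simp
    obtain ⟨nb, hnb, cb, hcb, hgnc⟩ := h1 (A.map φ) (map_mono hA) (φ g) (by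
      rw [hmapc]; exact map_mono hg)
    rw [← PConstrained.map_normalizer_eq φ hφ hk hZp] at hnb
    rw [← PConstrained.map_centralizer_eq φ hφ hk hAp] at hcb
    obtain ⟨n, hn, rfl⟩ := hnb
    obtain ⟨c, hc, rfl⟩ := hcb
    have hn' : n ∈ normalizer (Z : Set G) := hn
    have hc' : c ∈ centralizer (A : Set G) := hc
    set u := n⁻¹ * g * c⁻¹ with hu
    have huK : u ∈ φ.ker := by
      rw [MonoidHom.mem_ker, hu, map_mul, map_mul, map_inv, map_inv, hgnc]
      group
    have hgu : g = n * u * c := by rw [hu]; group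
    obtain ⟨w, hw, d, hd, hud⟩ := exists_of_pprime (p := p) (A := A) (K := φ.ker)
      (M := normalizer (Z : Set G)) hAp hk (by
        rw [normalizer_eq_top_iff.2 (MonoidHom.normal_ker φ)]; exact le_top)
      (hA.trans h.le_norm) huK (by
        intro a ha
        have h2 : n * (u * a * u⁻¹) * n⁻¹ ∈ normalizer (Z : Set G) := by
          have h3 : g * a * g⁻¹ ∈ S := (map_conj_le_iff.1 hg) a ha
          have h4 : g * a * g⁻¹ = n * (u * a * u⁻¹) * n⁻¹ := by
            have h5 := conj_eq_of_mem_centralizer hc' ha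
            calc g * a * g⁻¹ = n * (u * (c * a * c⁻¹) * u⁻¹) * n⁻¹ := by rw [hgu]; group
              _ = n * (u * a * u⁻¹) * n⁻¹ := by rw [h5]
          rw [← h4]
          exact h.le_norm h3
        have h3 := mul_mem (mul_mem (inv_mem hn') h2) hn'
        have e : n⁻¹ * (n * (u * a * u⁻¹) * n⁻¹) * n = u * a * u⁻¹ := by group
        rwa [e] at h3)
    refine ⟨n * w, mul_mem hn' hw.2, d * c, mul_mem hd hc', ?_⟩
    rw [hgu, hud]; group
  · right
    exact h1.lift_coprime hφ hk h.pS h.le

end Steps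

end Cfsg.Agent.H219.Red
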