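import Cfsg.Agent.H219.CycLift
import Cfsg.Agent.H219.FConf

/-!
The subgroup `C` of order `p` with full automizer.
-/

set_option autoImplicit false

namespace Cfsg.Agent.H219.RelIdx

open Subgroup
open Cfsg.Agent.Lib.GoldschmidtFusion
open Cfsg.Agent.H219.Conf Cfsg.Agent.H219.CycLift

variable {G : Type*} [Group G] [Finite G] {p : ℕ} [hpf : Fact p.Prime]

omit [Finite G] in
theorem conj_pow_iter {x c : G} {l : ℕ} (h : x * c * x⁻¹ = c ^ l) (j : ℕ) :
    x ^ j * c * (x ^ j)⁻¹ = c ^ l ^ j := by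
  induction j with
  | zero => simp
  | succ j ih =>
    have e : x ^ (j + 1) * c * (x ^ (j + 1))⁻¹ = x * (x ^ j * c * (x ^ j)⁻¹) * x⁻¹ := by
      rw [pow_succ']; group
    rw [e, ih, ← conj_pow, h, ← pow_mul, pow_succ']

theorem relIndex_eq {H : Subgroup G} {c x : G} (hc : orderOf c = p) (hx : x ∈ H) {l : ℕ}
    (hxc : x * c * x⁻¹ = c ^ l) (hl : orderOf (l : ZMod p) = p - 1) :
    (H ⊓ centralizer ((zpowers c : Subgroup G) : Set G)).relIndex
      (H ⊓ normalizer ((zpowers c : Subgroup G) : Set G)) = p - 1 := by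
  classical
  have hp1 : 1 < p := hpf.out.one_lt
  have hc1 : c ≠ 1 := by
    intro h
    rw [h, orderOf_one] at hc
    omega
  set N := H ⊓ normalizer ((zpowers c : Subgroup G) : Set G) with hN
  let act : MulAction N G := MulAction.compHom G ((MulAut.conj : G →* MulAut G).comp N.subtype)
  have hact : ∀ (n : N) (g : G), n • g = (n : G) * g * (n : G)⁻¹ := fun n g => rfl
  have hstab : MulAction.stabilizer N c =
      (H ⊓ centralizer ((zpowers c : Subgroup G) : Set G)).subgroupOf N := by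
    ext n
    rw [MulAction.mem_stabilizer_iff, hact, mem_subgroupOf]
    constructor
    · intro h
      refine ⟨n.2.1, ?_⟩
      refine mem_centralizer_iff.2 ?_
      intro d hd
      obtain ⟨k, rfl⟩ := Subgroup.mem_zpowers_iff.1 hd
      have h1 : (n : G) * c ^ k * (n : G)⁻¹ = c ^ k := by rw [← conj_zpow, h]
      exact (mul_inv_eq_iff_eq_mul.1 h1).symm
    · intro h
      have h1 := (mem_centralizer_iff.1 h.2) c (mem_zpowers c)
      rw [← h1, mul_inv_cancel_right]
  have hlu : IsUnit (l : ZMod p) := by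
    rw [isUnit_iff_ne_zero]
    intro h0
    rw [h0] at hl
    have h1 : orderOf (0 : ZMod p) = 0 := by
      rw [orderOf_eq_zero_iff, isOfFinOrder_iff_pow_eq_one]
      rintro ⟨n, hn, h⟩
      rw [zero_pow hn.ne'] at h
      exact zero_ne_one h
    omega
  have hxN : x ∈ N := by
    refine ⟨hx, ?_⟩
    change x ∈ normalizer ((zpowers c : Subgroup G) : Set G)
    rw [mem_normalizer_iff_map_conj]
    apply map_conj_le_of_le_normalizer
    rw [MonoidHom.map_zpowers, zpowers_le]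
    change x * c * x⁻¹ ∈ zpowers c
    rw [hxc]
    exact pow_mem (mem_zpowers c) l
  have horb : MulAction.orbit N c = ((zpowers c : Subgroup G) : Set G) \ {1} := by
    ext d
    constructor
    · rintro ⟨n, rfl⟩
      refine ⟨?_, ?_⟩
      · exact (Subgroup.mem_normalizer_iff.1 n.2.2 c).1 (mem_zpowers c)
      · intro h
        apply hc1
        have h1 : (n : G) * c * (n : G)⁻¹ = 1 := h
        exact conj_eq_one_iff.1 h1
    · rintro ⟨hd, hd1⟩
      have hd' : d ∈ zpowers c := hd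
      rw [← mem_powers_iff_mem_zpowers] at hd'
      obtain ⟨i, rfl⟩ := hd'
      have hi : (i : ZMod p) ≠ 0 := by
        intro h0
        rw [CharP.cast_eq_zero_iff (ZMod p) p] at h0
        apply hd1
        rw [Set.mem_singleton_iff]
        obtain ⟨k, rfl⟩ := h0
        change c ^ (p * k) = 1
        rw [pow_mul, ← hc, pow_orderOf_eq_one, one_pow]
      obtain ⟨j, hj⟩ : ∃ j : ℕ, (l : ZMod p) ^ j = i := by
        have h1 : orderOf hlu.unit = Nat.card (ZMod p)ˣ := by
          rw [← orderOf_units, IsUnit.unit_spec, hl, Nat.card_eq_fintype_card, ZMod.card_units]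
        have h2 : (isUnit_iff_ne_zero.2 hi).unit ∈ Submonoid.powers hlu.unit := by
          rw [mem_powers_iff_mem_zpowers]
          rw [Subgroup.eq_top_of_card_eq (zpowers hlu.unit) (by rw [Nat.card_zpowers, h1])]
          trivial
        obtain ⟨j, hj⟩ := h2
        refine ⟨j, ?_⟩
        have h3 := congrArg (fun u : (ZMod p)ˣ => (u : ZMod p)) hj
        simpa using h3
      refine ⟨⟨x ^ j, N.pow_mem hxN j⟩, ?_⟩
      change x ^ j * c * (x ^ j)⁻¹ = c ^ i
      rw [conj_pow_iter hxc, pow_eq_pow_iff_modEq, hc, ← ZMod.natCast_eq_natCast_iff, Nat.cast_pow]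
      exact hj
  have h1 : (MulAction.stabilizer N c).index = (MulAction.orbit N c).ncard :=
    MulAction.index_stabilizer N c
  rw [hstab, horb] at h1
  change ((H ⊓ centralizer ((zpowers c : Subgroup G) : Set G)).subgroupOf N).index = p - 1
  rw [h1, Set.ncard_sdiff_singleton_of_mem (one_mem (zpowers c))]
  congr 1
  have h2 : (((zpowers c : Subgroup G) : Set G)).ncard = Nat.card (zpowers c) := rfl
  rw [h2, Nat.card_zpowers, hc]

/-- The torus element can be taken of order prime to `p`. -/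
theorem exists_pprime {lam : ZMod p} {S M Z : Subgroup G} (h : FConf p lam S M Z) :
    ∃ (W Q : Subgroup G) (e1 e2 : G → ZMod p) (x : G), Core p lam W Q e1 e2 x ∧
      (orderOf x).Coprime p ∧ Q ≤ S ∧ x ∈ M ∧ ∃ z ∈ Z, z ∈ W ∧ e1 z = 1 ∧ e2 z = 0 := by
  obtain ⟨W, Q, e1, e2, x, hc, hQ, hx, hz⟩ := h
  obtain ⟨k, m, hm, hkm⟩ := Nat.exists_eq_pow_mul_and_not_dvd (orderOf_pos x).ne' p
    hpf.out.one_lt.ne'
  refine ⟨W, Q, e1, e2, x ^ p ^ k, ⟨hc.le, pow_mem hc.xQ _, pow_mem hc.xW _, hc.add, hc.sur, hc.act,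
    hc.ntr, ?_⟩, ?_, hQ, pow_mem hx _, hz⟩
  · have h1 : ∀ j : ℕ, ∀ w ∈ W, x ^ j * w * (x ^ j)⁻¹ ∈ W ∧
        e1 (x ^ j * w * (x ^ j)⁻¹) = lam ^ j * e1 w ∧
        e2 (x ^ j * w * (x ^ j)⁻¹) = (lam⁻¹) ^ j * e2 w := by
      intro j
      induction j with
      | zero => intro w hw; simpa using hw
      | succ j ih =>
        intro w hw
        obtain ⟨i1, i2, i3⟩ := ih w hw
        have e : x ^ (j + 1) * w * (x ^ (j + 1))⁻¹ = x * (x ^ j * w * (x ^ j)⁻¹) * x⁻¹ := by
          rw [pow_succ']; group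
        obtain ⟨t1, t2⟩ := hc.tor _ i1
        rw [e]
        refine ⟨(Subgroup.mem_normalizer_iff.1 hc.xW _).1 i1, ?_, ?_⟩
        · rw [t1, i2]; ring
        · rw [t2, i3]; ring
    intro w hw
    obtain ⟨-, h2, h3⟩ := h1 (p ^ k) w hw
    rw [ZMod.pow_card_pow] at h2 h3
    exact ⟨h2, h3⟩
  · rw [orderOf_pow_of_dvd (pow_ne_zero _ hpf.out.ne_zero) (by rw [hkm]; exact Dvd.intro _ rfl), hkm,
      Nat.mul_div_cancel_left _ (pow_pos hpf.out.pos _)]
    exact ((Nat.Prime.coprime_iff_not_dvd hpf.out).2 hm).symm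

/-- The subgroup `C`. -/
theorem exists_C {lam : ZMod p} (hlam : orderOf lam = p - 1) {S M Z : Subgroup G}
    (hS : IsPGroup p S) (hM : M ≤ normalizer (Z : Set G)) (h : FConf p lam S M Z) :
    ∃ C : Subgroup G, C ≤ Z ∧ Nat.card C = p ∧
      (M ⊓ centralizer (C : Set G)).relIndex (M ⊓ normalizer (C : Set G)) = p - 1 := by
  obtain ⟨W, Q, e1, e2, x, hc, hcop, hQ, hx, z, hz, hzW, hz1, hz2⟩ := exists_pprime h
  have hWp : IsPGroup p W := hS.to_le (hc.le.trans hQ)
  have hxA : x ∈ normalizer ((Z ⊓ W : Subgroup G) : Set G) := by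
    rw [mem_normalizer_iff_map_conj, Subgroup.map_inf _ _ _ (MulAut.conj x).injective,
      mem_normalizer_iff_map_conj.1 (hM hx), mem_normalizer_iff_map_conj.1 hc.xW]
  obtain ⟨u, hu, hu0, l, hl⟩ := cyc_lift hcop e1 lam (Nat.card (Z ⊓ W : Subgroup G)) (Z ⊓ W) le_rfl
    (hWp.to_le inf_le_right) hxA (fun q hq q' hq' => (hc.add q hq.2 q' hq'.2).1)
    (fun q hq => (hc.tor q hq.2).1) ⟨z, ⟨hz, hzW⟩, by rw [hz1]; exact one_ne_zero⟩
  have hadd : ∀ k : ℕ, e1 (u ^ k) = k * e1 u := by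
    intro k
    induction k with
    | zero =>
      have h1 := (hc.add 1 W.one_mem 1 W.one_mem).1
      rw [mul_one] at h1
      rw [pow_zero, Nat.cast_zero, zero_mul]
      exact left_eq_add.1 h1
    | succ k ih =>
      rw [pow_succ, (hc.add _ (W.pow_mem hu.2 k) _ hu.2).1, ih]
      push_cast; ring
  have hlam' : (l : ZMod p) = lam := by
    have h1 := (hc.tor u hu.2).1
    rw [hl, hadd] at h1
    exact mul_right_cancel₀ hu0 h1
  have hu1 : u ≠ 1 := by
    intro h1
    apply hu0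
    have h2 := hadd 0
    rw [pow_zero, Nat.cast_zero, zero_mul] at h2
    rw [h1, h2]
  have hpu : p ∣ orderOf u := by
    obtain ⟨n, hn⟩ := (IsPGroup.iff_orderOf.1 hWp) ⟨u, hu.2⟩
    rw [Subgroup.orderOf_mk] at hn
    rcases Nat.eq_zero_or_pos n with h0 | h0
    · rw [h0, pow_zero, orderOf_eq_one_iff] at hn
      exact absurd hn hu1
    · rw [hn]; exact dvd_pow_self p h0.ne'
  obtain ⟨m, hm⟩ := hpu
  have hm0 : m ≠ 0 := by
    intro h0
    rw [h0, mul_zero] at hm
    exact (orderOf_pos u).ne' hm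
  set c := u ^ m with hcdef
  have hco : orderOf c = p := by
    rw [hcdef, orderOf_pow_of_dvd hm0 (by rw [hm]; exact Dvd.intro_left _ rfl), hm,
      Nat.mul_div_cancel _ (Nat.pos_of_ne_zero hm0)]
  have hcZ : c ∈ Z := Z.pow_mem hu.1 m
  refine ⟨zpowers c, by rwa [zpowers_le], by rw [Nat.card_zpowers, hco], ?_⟩
  refine relIndex_eq hco hx (l := l) ?_ (by rw [hlam', hlam])
  rw [hcdef, ← conj_pow, hl, ← pow_mul, ← pow_mul, mul_comm]

end Cfsg.Agent.H219.RelIdx
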