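import Cfsg.Agent.H439.Der.Tools
import Cfsg.Agent.H360.Iso.Uni
import Cfsg.Agent.H251.Small.Base
import Cfsg.Agent.H559.UnitMult
import Cfsg.Agent.H511.Wt.Cnt

/-!
# S3500, the row `PSU n F q`, `n ≥ 4`: no prime is `SC` (helper219)

* `sc_bound`: a prime `v`, prime to `q (q + 1)`, all of whose singular elements are `Aut`-conjugate, satisfies
  `v - 1 ≤ |Aut F| * n`: the eigenvalue `a` of order `v` of a lift `X` of order `v` gives the eigenvalue `a ^ k` of
  `X ^ k`, whose characteristic polynomial is a field conjugate of the one of `X`;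
* `nsc_psu`: `NSC (PSU n F q)` for `n ≥ 4`, `(n, q) ≠ (4, 2), (4, 3), (5, 2), (6, 2)`.
-/

set_option autoImplicit false

namespace Cfsg.Agent.H219.RowPsu

open Cfsg Matrix Polynomial
open Cfsg.Agent.H439.Der
open Cfsg.Agent.LieClassical.HermBasic Cfsg.Agent.LieClassical.HermSiegel Cfsg.Agent.LieClassical.SUBasic
open Cfsg.Agent.ClassicalGeometry.PSUAutBasic
open Cfsg.Agent.H948.UBase Cfsg.Agent.H948.UProd Cfsg.Agent.H948.UTorus Cfsg.Agent.H948.UMain

/-- the power of an eigenvalue is an eigenvalue of the power -/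
theorem root_pow {K ι : Type*} [Field K] [Fintype ι] [DecidableEq ι] (N : Matrix ι ι K) {a : K}
    (h : N.charpoly.IsRoot a) (k : ℕ) : (N ^ k).charpoly.IsRoot (a ^ k) := by
  rw [IsRoot.def, Matrix.eval_charpoly] at h ⊢
  obtain ⟨w, hw0, hw⟩ := Matrix.exists_mulVec_eq_zero_iff.2 h
  refine Matrix.exists_mulVec_eq_zero_iff.1 ⟨w, hw0, ?_⟩
  have h1 : N *ᵥ w = a • w := by
    rw [Matrix.sub_mulVec, sub_eq_zero, Matrix.scalar_apply, ← Matrix.smul_one_eq_diagonal, Matrix.smul_mulVec,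
      Matrix.one_mulVec] at hw
    exact hw.symm
  have h2 : ∀ j : ℕ, (N ^ j) *ᵥ w = a ^ j • w := by
    intro j
    induction j with
    | zero => simp
    | succ j ih => rw [pow_succ, ← Matrix.mulVec_mulVec, h1, Matrix.mulVec_smul, ih, smul_smul, pow_succ, mul_comm]
  rw [Matrix.sub_mulVec, sub_eq_zero, Matrix.scalar_apply, ← Matrix.smul_one_eq_diagonal, Matrix.smul_mulVec,
      Matrix.one_mulVec, h2]

variable {F : Type} [Field F] [Fintype F] {n q : ℕ}

omit [Fintype F] in
theorem mat_pow (g : SU n F q) (k : ℕ) : mat (g ^ k) = mat g ^ k := by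
  induction k with
  | zero => rw [pow_zero, pow_zero, mat_one]
  | succ k ih => rw [pow_succ, pow_succ, mat_mul, ih]

/-- an element of prime order `v` prime to `q + 1` lifts to an element of order `v` -/
theorem exists_lift (hF : Fintype.card F = q ^ 2) (hn : 3 ≤ n) {v : ℕ} (hv : v.Prime) (hvq : ¬ v ∣ q + 1)
    {x : PSU n F q} (hx : x ^ v = 1) : ∃ y : SU n F q, pr n F q y = x ∧ y ^ v = 1 := by
  obtain ⟨z, hz⟩ := pr_surjective x
  have h1 : pr n F q 1 = pr n F q (z ^ v) := by rw [map_pow, hz, hx, map_one]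
  obtain ⟨c, -, hc2, hc3⟩ := Cfsg.Agent.H251.Small.mat_pr hF hn h1
  have h2 : (z ^ v) ^ (q + 1) = 1 := by
    apply mat_injective
    rw [mat_pow, hc3, mat_one, _root_.smul_pow, one_pow, hc2, one_smul]
  have hco : Nat.Coprime v (q + 1) := (Nat.Prime.coprime_iff_not_dvd hv).2 hvq
  obtain ⟨m, hm1, hm2⟩ := Nat.chineseRemainder hco 1 0
  obtain ⟨t, ht⟩ := (Nat.modEq_zero_iff_dvd).1 hm2
  refine ⟨z ^ m, ?_, ?_⟩
  · rw [map_pow, hz]
    have h3 : x ^ m = x ^ 1 := by
      rw [pow_eq_pow_iff_modEq]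
      exact hm1.of_dvd (orderOf_dvd_of_pow_eq_one hx)
    rw [h3, pow_one]
  · rw [← pow_mul, mul_comm, pow_mul, ht, pow_mul, h2, one_pow]

/-- **The bound**: `v - 1 ≤ |Aut F| n` -/
theorem sc_bound (hF : Fintype.card F = q ^ 2) (hn : 3 ≤ n) (h32 : ¬ (n = 3 ∧ q = 2)) {v : ℕ} (hv : v.Prime)
    (hvq : ¬ v ∣ q) (hvq1 : ¬ v ∣ q + 1) (hd : v ∣ Nat.card (PSU n F q)) (h : SC (PSU n F q) v) :
    v - 1 ≤ Nat.card (F ≃+* F) * n := by
  classical
  have := Fact.mk hv
  obtain ⟨p, k, hp, hch, hk, hk0⟩ := exists_prime_pow hF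
  have := Fact.mk hp
  have hvp : v ≠ p := by
    rintro rfl
    exact hvq (by rw [hk]; exact dvd_pow_self v hk0.ne')
  obtain ⟨x, hx⟩ := exists_prime_orderOf_dvd_card' v hd
  obtain ⟨y, hyx, hy⟩ := exists_lift hF hn hv hvq1 (by rw [← hx, pow_orderOf_eq_one] : x ^ v = 1)
  let K := AlgebraicClosure F
  have hroot := Cfsg.Agent.H559.UnitMult.exists_root (K := K) p y hv hvp (by
    have : (QuotientGroup.mk y : PSU n F q) = x := hyx
    rw [this, hx])
  obtain ⟨a, ha, hva⟩ := hroot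
  have ha' : ((mat y).map (algebraMap F K)).charpoly.IsRoot a := by
    have := (Polynomial.mem_roots'.1 ha).2
    exact this
  have hpow : ∀ j : ℕ, ((mat y ^ j).map (algebraMap F K)) = ((mat y).map (algebraMap F K)) ^ j := by
    intro j
    exact map_pow (algebraMap F K).mapMatrix (mat y) j
  have hroots : ∀ j : ℕ, ((mat y ^ j).map (algebraMap F K)).charpoly.IsRoot (a ^ j) := by
    intro j
    rw [hpow]
    exact root_pow _ ha' j
  have hav : a ^ v = 1 := by
    have h1 := hroots v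
    rw [← mat_pow, hy, mat_one, Matrix.map_one _ (map_zero _) (map_one _), IsRoot.def, Matrix.eval_charpoly,
      Matrix.scalar_apply, ← Matrix.smul_one_eq_diagonal] at h1
    have h2 : (a ^ v • (1 : Matrix (Fin n) (Fin n) K) - 1) = (a ^ v - 1) • (1 : Matrix (Fin n) (Fin n) K) := by
      rw [sub_smul, one_smul]
    rw [h2, Matrix.det_smul, Matrix.det_one, mul_one] at h1
    exact sub_eq_zero.1 (eq_zero_of_pow_eq_zero h1)
  have hoa : orderOf a = v := Nat.dvd_antisymm (orderOf_dvd_of_pow_eq_one hav) hva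
  have hcard : ((Finset.range (v - 1)).image fun j => a ^ (j + 1)).card = v - 1 := by
    rw [Finset.card_image_of_injOn, Finset.card_range]
    intro i hi j hj hij
    simp only [Finset.coe_range, Set.mem_Iio] at hi hj
    have h1 := pow_injOn_Iio_orderOf (x := a) (by rw [hoa]; show i + 1 < v; omega)
      (by rw [hoa]; show j + 1 < v; omega) hij
    omega
  have : Finite (F ≃+* F) := Finite.of_injective (fun f : F ≃+* F => (f : F → F)) DFunLike.coe_injective
  have := Fintype.ofFinite (F ≃+* F)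
  have hsub : ((Finset.range (v - 1)).image fun j => a ^ (j + 1)) ⊆ (Finset.univ : Finset (F ≃+* F)).biUnion
      fun ρ => ((((mat y).map ρ).map (algebraMap F K)).charpoly).roots.toFinset := by
    intro b hb
    obtain ⟨j, hj, rfl⟩ := Finset.mem_image.1 hb
    rw [Finset.mem_range] at hj
    have hxj : orderOf (x ^ (j + 1)) = v := by
      rw [orderOf_pow, hx, Nat.Coprime.gcd_eq_one, Nat.div_one]
      exact (Nat.Prime.coprime_iff_not_dvd hv).2 fun h1 => by
        have := Nat.le_of_dvd (by omega) h1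
        omega
    obtain ⟨φ, hφ⟩ := h x (x ^ (j + 1)) (by rw [hx]) (by rw [hxj])
    have hφ' : φ (pr n F q y) = pr n F q (y ^ (j + 1)) := by rw [hyx, hφ, map_pow, hyx]
    obtain ⟨A, B, ρ, c, hAB, -, hc, hM⟩ := Cfsg.Agent.H251.Small.aut_mat hF hn h32 φ hφ'
    have hBA : B * A = 1 := _root_.mul_eq_one_comm.1 hAB
    have hconj : ∀ i : ℕ, (A * (mat y).map ρ * B) ^ i = A * ((mat y).map ρ) ^ i * B := by
      intro i
      induction i with
      | zero => rw [pow_zero, pow_zero, Matrix.mul_one, hAB]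
      | succ i ih =>
        rw [pow_succ, ih, pow_succ]
        simp only [Matrix.mul_assoc]
        rw [← Matrix.mul_assoc B A, hBA, Matrix.one_mul]
    have hρ : ∀ i : ℕ, ((mat y).map ρ) ^ i = (mat y ^ i).map ρ := fun i =>
      (map_pow (ρ : F →+* F).mapMatrix (mat y) i).symm
    have hcv : c ^ v = 1 := by
      have h1 : (mat (y ^ (j + 1))) ^ v = 1 := by
        rw [← mat_pow, ← pow_mul, mul_comm, pow_mul, hy, one_pow, mat_one]
      rw [hM, _root_.smul_pow, hconj, hρ, ← mat_pow, hy, mat_one, Matrix.map_one _ (map_zero _) (map_one _),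
        Matrix.mul_one, hAB] at h1
      have h2 := congrFun (congrFun h1 ⟨0, by omega⟩) ⟨0, by omega⟩
      simpa using h2
    have hc1 : c = 1 := by
      have hco : Nat.Coprime v (q + 1) := (Nat.Prime.coprime_iff_not_dvd hv).2 hvq1
      have h1 : c ^ Nat.gcd v (q + 1) = 1 := pow_gcd_eq_one.2 ⟨hcv, hc⟩
      rwa [hco.gcd_eq_one, pow_one] at h1
    rw [hc1, one_smul, mat_pow] at hM
    rw [Finset.mem_biUnion]
    refine ⟨ρ, Finset.mem_univ _, ?_⟩
    rw [Multiset.mem_toFinset, Polynomial.mem_roots']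
    refine ⟨(Matrix.charpoly_monic _).ne_zero, ?_⟩
    have h3 : ((mat y ^ (j + 1)).map (algebraMap F K)).charpoly =
        (((mat y).map ρ).map (algebraMap F K)).charpoly := by
      rw [hM]
      have h4 : ∀ N : Matrix (Fin n) (Fin n) F, (N.map (algebraMap F K)).charpoly = N.charpoly.map (algebraMap F K) :=
        fun N => Matrix.charpoly_map N (algebraMap F K)
      rw [h4, h4, Matrix.charpoly_mul_comm, ← Matrix.mul_assoc, hBA, Matrix.one_mul]
    rw [← h3]
    exact hroots (j + 1)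
  rw [← hcard]
  refine (Finset.card_le_card hsub).trans (Finset.card_biUnion_le.trans ?_)
  have h5 : ∀ ρ ∈ (Finset.univ : Finset (F ≃+* F)),
      ((((mat y).map ρ).map (algebraMap F K)).charpoly).roots.toFinset.card ≤ n := by
    intro ρ _
    refine (Multiset.toFinset_card_le _).trans ((Polynomial.card_roots' _).trans ?_)
    rw [Matrix.charpoly_natDegree_eq_dim, Fintype.card_fin]
  refine (Finset.sum_le_card_nsmul _ _ _ h5).trans ?_
  rw [smul_eq_mul, Finset.card_univ, Nat.card_eq_fintype_card]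

/-- `|Aut F| ≤ q` -/
theorem card_aut_le (hF : Fintype.card F = q ^ 2) : Nat.card (F ≃+* F) ≤ q := by
  have h2 := two_le hF
  have h1 := Cfsg.Agent.H511.Wt.card_ringAut_le (K := F)
  rw [Nat.card_eq_fintype_card (α := F), hF] at h1
  by_contra hlt
  push Not at hlt
  have h3 : 2 ^ (q + 1) ≤ q ^ 2 := (Nat.pow_le_pow_right (by norm_num) hlt).trans h1
  have h4 : ∀ m : ℕ, 2 ≤ m → m ^ 2 < 2 ^ (m + 1) := by
    intro m hm
    induction m, hm using Nat.le_induction with
    | base => norm_num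
    | succ m hm ih =>
      rcases Nat.lt_or_ge m 3 with h | h
      · interval_cases m
        norm_num
      · rw [pow_succ 2 (m + 1)]
        nlinarith
  exact absurd (h4 q h2) (by omega)

/-! ### numbers -/

/-- the two inequalities that exclude a torus of prime order -/
def Ineq (n q : ℕ) : Prop := Nat.gcd n (q + 1) * (q + 1) * (q * n + 1) + 1 < q ^ n ∧
  Nat.gcd n (q + 1) * (q * n + 1) + 1 < q ^ (n - 1)

theorem ineq_ge {q : ℕ} (hq : 5 ≤ q) : ∀ n : ℕ, 4 ≤ n → n * (q + 1) * (q * n + 1) + 1 < q ^ n := by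
  intro n hn
  induction n, hn using Nat.le_induction with
  | base =>
    have h1 : 5 * 5 ≤ q * q := Nat.mul_le_mul hq hq
    have h2 : 25 * (q * q) ≤ q ^ 4 := by
      have : q ^ 4 = (q * q) * (q * q) := by ring
      rw [this]
      exact Nat.mul_le_mul (by omega) le_rfl
    nlinarith
  | succ n hn ih =>
    have h1 : (n + 1) * (q + 1) * (q * (n + 1) + 1) ≤ 4 * (n * (q + 1) * (q * n + 1)) := by
      have h2 : n + 1 ≤ 2 * n := by omega
      have h3 : q * (n + 1) + 1 ≤ 2 * (q * n + 1) := by nlinarith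
      calc (n + 1) * (q + 1) * (q * (n + 1) + 1) ≤ (2 * n) * (q + 1) * (2 * (q * n + 1)) :=
            Nat.mul_le_mul (Nat.mul_le_mul h2 le_rfl) h3
        _ = 4 * (n * (q + 1) * (q * n + 1)) := by ring
    have h4 : q ^ n * 5 ≤ q ^ (n + 1) := by
      rw [pow_succ]
      exact Nat.mul_le_mul le_rfl hq
    omega

theorem ineq_of_five {n q : ℕ} (hq : 5 ≤ q) (hn : 4 ≤ n) : Ineq n q := by
  have h1 := ineq_ge hq n hn
  have hg : Nat.gcd n (q + 1) ≤ n := Nat.gcd_le_left _ (by omega)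
  constructor
  · refine lt_of_le_of_lt ?_ h1
    exact Nat.add_le_add_right (Nat.mul_le_mul (Nat.mul_le_mul hg le_rfl) le_rfl) 1
  · have h2 : Nat.gcd n (q + 1) * (q * n + 1) ≤ n * (q * n + 1) := Nat.mul_le_mul hg le_rfl
    have h3 : q ^ n = q ^ (n - 1) * q := by
      rw [← pow_succ, Nat.sub_add_cancel (by omega)]
    rw [h3] at h1
    by_contra hlt
    push Not at hlt
    have h4 : q ^ (n - 1) ≤ n * (q * n + 1) + 1 := by omega
    have h5 : q ^ (n - 1) * q ≤ (n * (q * n + 1) + 1) * q := Nat.mul_le_mul h4 le_rfl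
    have h6 : 4 * (q * 4 + 1) ≤ n * (q * n + 1) :=
      Nat.mul_le_mul hn (Nat.add_le_add_right (Nat.mul_le_mul le_rfl hn) 1)
    nlinarith

theorem lin_lt {q a b m : ℕ} (hq : 2 ≤ q) (h0 : a * m + b < q ^ m) (h1 : 1 ≤ m) : ∀ n : ℕ, m ≤ n → a * n + b < q ^ n := by
  intro n hn
  induction n, hn using Nat.le_induction with
  | base => exact h0
  | succ n hn ih =>
    have h2 : a * 1 ≤ a * n := Nat.mul_le_mul le_rfl (by omega)
    have h3 : q ^ n * 2 ≤ q ^ (n + 1) := by
      rw [pow_succ]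
      exact Nat.mul_le_mul le_rfl hq
    rw [mul_add]
    omega

theorem ineq_small {q c m : ℕ} (hq : 2 ≤ q) (hm : 2 ≤ m) (hc : ∀ n, Nat.gcd n (q + 1) ≤ c)
    (h1 : (c * (q + 1) * q) * m + (c * (q + 1) + 1) < q ^ m) (h2 : (c * q) * (m - 1) + (c * q + c + 1) < q ^ (m - 1))
    {n : ℕ} (hn : m ≤ n) : Ineq n q := by
  have e1 := lin_lt hq h1 (by omega) n hn
  have e2 := lin_lt hq h2 (by omega) (n - 1) (by omega)
  constructor
  · refine lt_of_le_of_lt ?_ e1
    have h3 : Nat.gcd n (q + 1) * (q + 1) * (q * n + 1) ≤ c * (q + 1) * (q * n + 1) :=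
      Nat.mul_le_mul (Nat.mul_le_mul (hc n) le_rfl) le_rfl
    have h4 : c * (q + 1) * (q * n + 1) = (c * (q + 1) * q) * n + c * (q + 1) := by ring
    omega
  · refine lt_of_le_of_lt ?_ e2
    have h3 : Nat.gcd n (q + 1) * (q * n + 1) ≤ c * (q * n + 1) := Nat.mul_le_mul (hc n) le_rfl
    obtain ⟨k, rfl⟩ : ∃ k, n = k + 1 := ⟨n - 1, by omega⟩
    rw [Nat.add_sub_cancel]
    have h4 : c * (q * (k + 1) + 1) = (c * q) * k + (c * q + c) := by ring
    omega

theorem ineq {n q : ℕ} (hn : 4 ≤ n) (hq : 2 ≤ q) (hex : (n, q) ∉ ({(4, 2), (4, 3), (5, 2), (6, 2)} : Finset (ℕ × ℕ))) :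
    Ineq n q := by
  simp only [Finset.mem_insert, Finset.mem_singleton, Prod.mk.injEq, not_or, not_and] at hex
  rcases Nat.lt_or_ge q 5 with h5 | h5
  · have hc : ∀ (k : ℕ), 0 < k → ∀ m : ℕ, Nat.gcd m k ≤ k := fun k hk m => Nat.gcd_le_right _ hk
    interval_cases q
    · rcases Nat.lt_or_ge n 8 with h8 | h8
      · have : n = 7 := by omega
        subst this
        constructor <;> norm_num
      · exact ineq_small (q := 2) (c := 3) (m := 8) (by norm_num) (by norm_num) (hc 3 (by norm_num)) (by norm_num)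
          (by norm_num) h8
    · rcases Nat.lt_or_ge n 6 with h8 | h8
      · have : n = 5 := by omega
        subst this
        constructor <;> norm_num
      · exact ineq_small (q := 3) (c := 4) (m := 6) (by norm_num) (by norm_num) (hc 4 (by norm_num)) (by norm_num)
          (by norm_num) h8
    · rcases Nat.lt_or_ge n 5 with h8 | h8
      · have : n = 4 := by omega
        subst this
        constructor <;> norm_num
      · exact ineq_small (q := 4) (c := 5) (m := 5) (by norm_num) (by norm_num) (hc 5 (by norm_num)) (by norm_num)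
          (by norm_num) h8
  · exact ineq_of_five h5 hn

/-! ### the theorem -/

theorem not_sc_of_adj {v w : ℕ} (h : Cfsg.Agent.H94.PG.Adj (PSU n F q) v w) : ¬ SC (PSU n F q) v := by
  obtain ⟨hv, hw, hvw, x, y, hx, hy, hc⟩ := h
  exact not_SC_of_commute hv hw hvw hx hy hc

theorem pow_le_ph (q i : ℕ) (hq : 1 ≤ q) : q ^ (i + 1) ≤ ph q i + 1 := by
  have h1 : 1 ≤ q ^ (i + 1) := Nat.one_le_pow _ _ hq
  unfold ph
  split_ifs <;> omega

/-- **No prime is `SC` in `PSU n F q`** -/
theorem nsc_psu (hF : Fintype.card F = q ^ 2) (hn : 4 ≤ n)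
    (hex : (n, q) ∉ ({(4, 2), (4, 3), (5, 2), (6, 2)} : Finset (ℕ × ℕ))) : NSC (PSU n F q) := by
  have hq := two_le hF
  have hI := ineq hn hq hex
  intro v hv hd hs
  have hfin : Finite (PSU n F q) := inferInstance
  by_cases h2 : v = 2
  · -- the prime 2
    subst h2
    obtain ⟨r, hr, hr2, hadj⟩ : ∃ r : ℕ, r.Prime ∧ r ≠ 2 ∧ Cfsg.Agent.H94.PG.Adj (PSU n F q) r 2 := by
      rcases Nat.even_or_odd q with he | ho
      · obtain ⟨r, hr, hrd⟩ := Nat.exists_prime_and_dvd (show q + 1 ≠ 1 by omega)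
        have hr2 : r ≠ 2 := by
          rintro rfl
          exact (Nat.not_even_iff_odd.2 he.add_one) (even_iff_two_dvd.2 hrd)
        exact ⟨r, hr, hr2, adj_two_of_lt hF hn hr hr2 (i := 0) (by omega) (by rw [ph_zero]; exact hrd)⟩
      · obtain ⟨r, hr, hrd⟩ := Nat.exists_prime_and_dvd (show q ≠ 1 by omega)
        have hr2 : r ≠ 2 := by
          rintro rfl
          exact (Nat.not_even_iff_odd.2 ho) (even_iff_two_dvd.2 hrd)
        exact ⟨r, hr, hr2, adj_two_of_char hF (by omega) hr hr2 hrd⟩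
    obtain ⟨-, -, -, x, y, hx, hy, hc⟩ := hadj
    exact not_SC_of_commute Nat.prime_two hr hr2.symm hy hx hc.symm hs
  have hvq : ¬ v ∣ q := fun h => not_sc_of_adj (adj_two_of_char hF (by omega) hv h2 h) hs
  have hlt : ∀ i : ℕ, i < n - 2 → ¬ v ∣ ph q i := fun i hi h => not_sc_of_adj (adj_two_of_lt hF hn hv h2 hi h) hs
  have hvq1 : ¬ v ∣ q + 1 := fun h => hlt 0 (by omega) (by rw [ph_zero]; exact h)
  have hb := sc_bound hF (by omega) (by omega) hv hvq hvq1 hd hs
  have hb2 : v ≤ q * n + 1 := by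
    have := Nat.mul_le_mul (card_aut_le hF) (le_refl n)
    omega
  have hord : ∀ x : PSU n F q, v ∣ orderOf x → orderOf x = v := by
    intro x hx
    by_contra hne
    exact not_SC_of_orderOf hv hx hne hs
  have hvg : ¬ v ∣ Nat.gcd n (q + 1) := fun h => hvq1 (h.trans (Nat.gcd_dvd_right _ _))
  have hg0 : 0 < Nat.gcd n (q + 1) := Nat.gcd_pos_of_pos_right _ (by omega)
  rcases (prime_dvd_card_PSU hF (by omega) hv hd) with h | ⟨i, hi, hid⟩
  · exact hvq h
  rcases Nat.lt_or_ge i (n - 2) with h3 | h3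
  · exact hlt i h3 hid
  rcases Nat.lt_or_ge i (n - 1) with h4 | h4
  · obtain rfl : i = n - 2 := by omega
    obtain ⟨x, hx⟩ := Cfsg.Agent.H360.Iso.exists_subU hF (n := n) (by omega)
    have h5 : orderOf x = v := hord x (((hv.dvd_mul).1 (hid.trans hx)).resolve_right hvg)
    rw [h5] at hx
    have h6 := Nat.le_of_dvd (Nat.mul_pos hv.pos hg0) hx
    have h7 := pow_le_ph q (n - 2) (by omega)
    have e : n - 2 + 1 = n - 1 := by omega
    rw [e] at h7
    have h8 : v * Nat.gcd n (q + 1) ≤ Nat.gcd n (q + 1) * (q * n + 1) := by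
      rw [mul_comm]
      exact Nat.mul_le_mul le_rfl hb2
    have := hI.2
    omega
  · obtain rfl : i = n - 1 := by omega
    obtain ⟨x, hx⟩ := Cfsg.Agent.H360.Iso.exists_topU hF (n := n) (by omega)
    have h5 : orderOf x = v :=
      hord x (((hv.dvd_mul).1 (((hv.dvd_mul).1 (hid.trans hx)).resolve_right hvq1)).resolve_right hvg)
    rw [h5] at hx
    have h6 := Nat.le_of_dvd (Nat.mul_pos (Nat.mul_pos hv.pos hg0) (by omega)) hx
    have h7 := pow_le_ph q (n - 1) (by omega)
    have e : n - 1 + 1 = n := by omega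
    rw [e] at h7
    have h8 : v * Nat.gcd n (q + 1) * (q + 1) ≤ Nat.gcd n (q + 1) * (q + 1) * (q * n + 1) := by
      calc v * Nat.gcd n (q + 1) * (q + 1) = Nat.gcd n (q + 1) * (q + 1) * v := by ring
        _ ≤ _ := Nat.mul_le_mul le_rfl hb2
    have := hI.1
    omega

/-- the row, given a missing prime for every maximal subgroup -/
theorem row_psu_of_pgap (hF : Fintype.card F = q ^ 2) (hn : 4 ≤ n)
    (hex : (n, q) ∉ ({(4, 2), (4, 3), (5, 2), (6, 2)} : Finset (ℕ × ℕ)))
    (h : ∀ M : Subgroup (PSU n F q), IsCoatom M → Cfsg.Agent.H938.Sax.PGap (PSU n F q) M) : Row (PSU n F q) :=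
  Row.of_pgap (nsc_psu hF hn hex) h

end Cfsg.Agent.H219.RowPsu
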