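import Cfsg.Agent.H278.ElFamA
import Cfsg.Agent.H884.CxMain
import Cfsg.Agent.H219.RowPsu

/-!
# S3500, the row `PSU n F q`, `n ≥ 4` (helper219)

`pgap_psu`: every proper subgroup misses a prime; `row_psu`: the row. Both from the order table and the
classification (hypotheses `tab`, `hK`).
-/

set_option autoImplicit false

namespace Cfsg.Agent.H219.RowPsu

open Cfsg Cfsg.Geo Cfsg.Agent.OrdDiv Cfsg.Agent.H436 Cfsg.Agent.H264.FKS Cfsg.Agent.H915.GN
open Cfsg.Agent.H439.Der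
open Cfsg.Agent.H278.El.Asm (CrossRowM)
open scoped MatrixGroups

variable {F : Type} [Field F] [Fintype F] {n q : ℕ}

/-- the cross characteristic row -/
theorem cross_psu {p : ℕ} (hF : Fintype.card F = q ^ 2) (hp : p.Prime) (hpq : p ∣ q) (hn : 4 ≤ n)
    (h2 : ¬ (q = 2 ∧ n ≤ 6)) (h3 : ¬ (n = 4 ∧ q = 3)) : CrossRowM p (PSU n F q) (Fin n) F := by
  intro R hR S hSn hSs hna hC H P hP ⟨e⟩ s g hs hsp hg hch
  have hT : IsNamed (.psu n q) (PSU n F q) := named_psu (F := F) hF (by omega) (by omega)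
  have hfin : Finite (PSU n F q) := Quotient.finite _
  obtain ⟨r, k, hr, hchr, hk, hk0⟩ := Cfsg.Agent.LieClassical.HermBasic.exists_prime_pow hF
  have hpr : p = r := (Nat.prime_dvd_prime_iff_eq hp hr).1 (hp.dvd_of_dvd_pow (hk ▸ hpq))
  subst hpr
  have hchT : HasChar p (.psu n q) := ⟨k, hk⟩
  rcases Cfsg.Agent.H884.Cx.cross_row hp hT trivial hchT (Fintype.card_fin n) S hna hC hP.perfect e hs hsp hg hch with
    h | h
  · exact h
  · exfalso
    simp only [Cfsg.Agent.H884.Cx.excP, List.mem_cons, Prod.mk.injEq, Grp.psu.injEq, reduceCtorEq, and_false,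
      or_false, false_or, List.not_mem_nil] at h
    omega

/-- **Every proper subgroup of `PSU n F q` misses a prime.** -/
theorem pgap_psu (tab : OrderTable.{0}) (hK : ∀ (X : Type) [Group X] [Finite X] [IsSimpleGroup X],
    Cfsg.IsKnownSimple' X) (hF : Fintype.card F = q ^ 2) (hn : 4 ≤ n)
    (hex : (n, q) ∉ ({(4, 2), (4, 3), (5, 2), (6, 2)} : Finset (ℕ × ℕ))) {M : Subgroup (PSU n F q)} (hM : M ≠ ⊤) :
    Cfsg.Agent.H938.Sax.PGap (PSU n F q) M := by
  simp only [Finset.mem_insert, Finset.mem_singleton, Prod.mk.injEq, not_or, not_and] at hex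
  obtain ⟨p, k, hp, -, hk, hk0⟩ := Cfsg.Agent.LieClassical.HermBasic.exists_prime_pow hF
  have hpq : p ∣ q := hk ▸ dvd_pow_self p hk0.ne'
  have h2 : ¬ (q = 2 ∧ n ≤ 6) := by omega
  have h3 : ¬ (n = 4 ∧ q = 3) := by omega
  exact Cfsg.Agent.H278.El.Asm.psu_row tab hK hF hp hpq hn h2 h3 (cross_psu hF hp hpq hn h2 h3) hM

/-- **The row `PSU n F q`, `n ≥ 4`.** -/
theorem row_psu (tab : OrderTable.{0}) (hK : ∀ (X : Type) [Group X] [Finite X] [IsSimpleGroup X],
    Cfsg.IsKnownSimple' X) (hF : Fintype.card F = q ^ 2) (hn : 4 ≤ n)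
    (hex : (n, q) ∉ ({(4, 2), (4, 3), (5, 2), (6, 2)} : Finset (ℕ × ℕ))) : Row (PSU n F q) :=
  row_psu_of_pgap hF hn hex fun _ hM => pgap_psu tab hK hF hn hex hM.1

end Cfsg.Agent.H219.RowPsu
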